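import Groth.Agent.VecBal.K812.LineDeg
import Groth.Agent.CurvSt.K896.TailBridge
import Groth.Agent.CurvesC.DualDegForm
import Groth.Agent.CurvesC.Ample1675
import Groth.Agent.CurvesC.GenusOne512
import Groth.Agent.CurvesC.DegIso
import Groth.Agent.Variety.K425.Chart
import Groth.Agent.Variety.K420.DetMain
import Groth.Agent.OmegaSh.K583.ExtPowPull
import Groth.Agent.S7637
import Groth.Agent.S1536
import Groth.Agent.S2501
import Groth.Agent.PerfB.FlatPull

/-!
# Ampleness of `det E ⊗ ω^m` for a properly balanced bundle `E` on a semistable curve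
-/

set_option autoImplicit false
universe u

open CategoryTheory CategoryTheory.Limits AlgebraicGeometry Opposite TopologicalSpace

namespace Groth.Agent.VecBal.K812.VAmple

open Groth.Agent Groth.Agent.CurvesC.CompGeom Groth.Agent.CurvesC.NodalPos Groth.Agent.Flat2H.FamDict

/-- The numerical estimate. -/
theorem num_pos {g r d e a δ m : ℤ} (hg : 2 ≤ g) (hr : 1 ≤ r) (ha : 1 ≤ a) (hδ : δ ≤ a + 2)
    (h : 2 * |(2 * g - 2) * e - d * a| ≤ r * δ * (2 * g - 2)) (hm : |d| + 2 * r ≤ m) : 0 < e + m * a := by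
  have h1 := neg_abs_le ((2 * g - 2) * e - d * a)
  have h2 := neg_abs_le d
  have h3 : 0 ≤ |d| := abs_nonneg d
  obtain ⟨G, rfl⟩ : ∃ G, g = G + 1 := ⟨g - 1, by ring⟩
  have hG : 1 ≤ G := by linarith
  -- `2 G e ≥ d a - r δ G`
  have h4 : d * a - r * δ * G ≤ 2 * G * e := by nlinarith
  have h5 : r * δ * G ≤ r * (3 * a) * G := by
    have : δ ≤ 3 * a := by linarith
    have h6 : r * δ ≤ r * (3 * a) := by nlinarith
    nlinarith
  have h6 : -(|d| * a * G) ≤ d * a := by
    have h7 : -(|d| * a) ≤ d * a := by nlinarith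
    have h8 : |d| * a ≤ |d| * a * G := by
      have : 0 ≤ |d| * a := by positivity
      nlinarith
    linarith
  have h9 : 0 < 2 * G * (e + m * a) := by
    have h10 : (|d| + 2 * r) * (G * a) ≤ m * (G * a) := by
      have : 0 ≤ G * a := by positivity
      nlinarith
    have h11 : 0 < r * (G * a) := by positivity
    have h12 : 0 ≤ |d| * (G * a) := by positivity
    nlinarith
  have hG' : 0 < 2 * G := by linarith
  exact (mul_pos_iff_of_pos_left hG').1 h9

variable (Ω : Type u) [Field Ω] [IsAlgClosed Ω] (X : Scheme.{u}) [X.Over (Spec (CommRingCat.of Ω))]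
  [IsProper (X ↘ (Spec (CommRingCat.of Ω)))]

theorem isFinLocFreeOfRank_pull {Y Z : Scheme.{u}} {r : ℕ} (f : Y ⟶ Z) {M : Z.Modules}
    (hM : FlatMod.IsFinLocFreeOfRank r M) : FlatMod.IsFinLocFreeOfRank r ((Scheme.Modules.pullback f).obj M) := by
  intro x
  obtain ⟨V, hV, ⟨e⟩⟩ := hM (f x)
  exact ⟨f ⁻¹ᵁ V, hV, ⟨(PerfB.FlatPull.pullbackRestrict f V).app M ≪≫
    (Scheme.Modules.pullback (f ∣_ V)).mapIso e ≪≫ PerfB.FlatPull.pullbackFreeMod _ r⟩⟩

theorem isInvertible_pull {Y Z : Scheme.{u}} (f : Y ⟶ Z) {L : Z.Modules} (hL : PicF.IsInvertible L) :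
    PicF.IsInvertible ((Scheme.Modules.pullback f).obj L) :=
  Ega2.QCohLocal.isFinLocFreeOfRank_one_iff.1
    (isFinLocFreeOfRank_pull f (Ega2.QCohLocal.isFinLocFreeOfRank_one_iff.2 hL))

theorem isInvertible_tensorPow {Y : Scheme.{u}} {L : Y.Modules} (hL : PicF.IsInvertible L) (n : ℕ) :
    PicF.IsInvertible (CohB1.tensorPow L n) := by
  induction n with
  | zero => exact Fdesc.LocGen.isInvertible_structureModule
  | succ n ih => exact Fdesc.LocGen.isInvertible_tensorMod ih hL

/-- The degree of the dualizing module on a component. -/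
theorem deg_w (hdim : topologicalKrullDim X = 1) (hnod : Curv2.AtWorstNodal Ω X)
    {w : X.Modules} (hw : PicF.IsInvertible w) {t : Coh.HH X w 1 →ₗ[Ω] Ω} (ht : CurvesC.DualCount.IsPair Ω t)
    (C : Set X) (hC : C ∈ irreducibleComponents (X : Type u)) :
    @Curv2.deg Ω _ (IC X C hC).subscheme (overC Ω X C hC)
        ((Scheme.Modules.pullback (IC X C hC).subschemeι).obj w) 1 =
      ((C ∩ closure Cᶜ).ncard : ℤ) - 2 * (1 - (Module.finrank Ω (Coh.HH X (ClSub.quotMod (IC X C hC)) 1) : ℤ)) := by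
  have hred := CurvesC.GenusOne512.isReduced_of_atWorstNodal Ω X hnod
  have hN : IsNoetherian X := CurvesC.CurveCoh.noetherianSpace Ω X
  have hY : C ⊆ closure (interior C) := by
    have := CurvesC.DualIdeals.subset_closure_interior (X := X) {C} (Set.singleton_subset_iff.2 hC)
    rwa [Set.sUnion_singleton] at this
  have h := CurvesC.DualDegForm.deg_form Ω hdim w hw ht (⟨C, isClosed_of_mem_irreducibleComponents C hC⟩ : Closeds X) hY
  refine h.trans ?_
  have h1 := K896.RatComp.finrank_inter Ω X hdim hnod C hC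
  have h2 := K896.RatComp.finrank_comp Ω X C hC
  have h3 : Module.finrank Ω (Coh.HH X (ClSub.quotMod (Scheme.IdealSheafData.vanishingIdeal
      (⟨C, isClosed_of_mem_irreducibleComponents C hC⟩ : Closeds X) ⊔
      CurvesC.TailGeom.complIdeal (⟨C, isClosed_of_mem_irreducibleComponents C hC⟩ : Closeds X))) 0) =
        (C ∩ closure Cᶜ).ncard := h1
  have h4 : Module.finrank Ω (Coh.HH X (ClSub.quotMod (Scheme.IdealSheafData.vanishingIdeal
      (⟨C, isClosed_of_mem_irreducibleComponents C hC⟩ : Closeds X))) 0) = 1 := h2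
  rw [h3, h4]
  push_cast
  ring

/-- The Euler characteristic of a component. -/
theorem euler_C (C : Set X) (hC : C ∈ irreducibleComponents (X : Type u))
    (hC1 : topologicalKrullDim (IC X C hC).subscheme = 1) :
    @Curv2.euler Ω _ (IC X C hC).subscheme (overC Ω X C hC) (Coh.structureModule _) =
      1 - (Module.finrank Ω (Coh.HH X (ClSub.quotMod (IC X C hC)) 1) : ℤ) := by
  let _ := overC Ω X C hC
  have hP : IsProper ((IC X C hC).subscheme ↘ (Spec (CommRingCat.of Ω))) := inferInstanceAs (IsProper (gC Ω X C hC))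
  rw [CurvesC.CurveCoh.euler_eq Ω (IC X C hC).subscheme hC1]
  have h1 := CurvesC.TailNum.finrank_quotMod Ω X (IC X C hC) 0
  have h2 := CurvesC.TailNum.finrank_quotMod Ω X (IC X C hC) 1
  have h3 := K896.RatComp.finrank_comp Ω X C hC
  rw [h3] at h1
  congr 2

/-- A bundle that is admissible has positive degree on every exceptional component. -/
theorem deg_exc (E : X.Modules) (r : ℕ)
    (hadm : VecBal.IsAdmissible Ω X (X ↘ (Spec (CommRingCat.of Ω))) E r) (C : Set X)
    (hC : C ∈ irreducibleComponents (X : Type u))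
    (hexc : VecBal.IsExceptional Ω X (X ↘ (Spec (CommRingCat.of Ω))) C) :
    0 < @Curv2.deg Ω _ (IC X C hC).subscheme (overC Ω X C hC)
        ((Scheme.Modules.pullback (IC X C hC).subschemeι).obj E) r := by
  obtain ⟨⟨hC', e, he, hcomp, hr⟩, hmeet⟩ := hexc
  let c : VecBal.RatChain Ω X (X ↘ (Spec (CommRingCat.of Ω))) 1 :=
    { e := fun _ => e
      isClosedImmersion := fun _ => he
      comp_eq := fun _ => hcomp
      pos := one_pos
      mem_irreducibleComponents := fun _ => by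
        have : Set.range e.base = C := hr
        rw [this]; exact hC
      encard_meetPts := fun _ => by
        have : Set.range e.base = C := hr
        rw [this]; exact hmeet
      line_injective := fun i j _ => Subsingleton.elim _ _
      encard_inter_succ := fun i j h => by omega
      inter_eq_empty := fun i j h => by omega }
  obtain ⟨a, ⟨R', ι, _, l, hl, L, ⟨φ⟩, hL⟩, ⟨⟨⟨hpos, hsp⟩, -⟩, -⟩⟩ := hadm 1 c
  have hle : l 0 ≫ ι = e := hl 0
  let _ := overC Ω X C hC
  let _ : (CohB1.ProjSpace 1 Ω).Over (Spec (CommRingCat.of Ω)) := ⟨CohB1.ProjSpace.toSpec 1 Ω⟩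
  have hredP : IsReduced (CohB1.ProjSpace 1 Ω) := inferInstance
  obtain ⟨e', he'⟩ := Groth.Agent.Ega1.ReducedSub.exists_iso_of_range_eq e (IC X C hC).subschemeι
    (by rw [range_C]; exact hr)
  have h1 : Curv2.deg Ω (CohB1.ProjSpace 1 Ω) ((Scheme.Modules.pullback e).obj E) r =
      Curv2.deg Ω (IC X C hC).subscheme ((Scheme.Modules.pullback (IC X C hC).subschemeι).obj E) r :=
    CurvesC.DegIso.deg_restrict Ω e (IC X C hC).subschemeι hcomp rfl e' he' E r
  rw [← h1]
  have f1 : (Scheme.Modules.pullback e).obj E ≅ ⨁ fun j => (Scheme.Modules.pullback (l 0)).obj (L j) :=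
    eqToIso (by rw [hle]) ≪≫ ((Scheme.Modules.pullbackComp (l 0) ι).symm.app E) ≪≫
      (Scheme.Modules.pullback (l 0)).mapIso φ ≪≫ (Scheme.Modules.pullback (l 0)).mapBiproduct L
  have h2 := CurvesC.DegIso.deg_congr Ω f1 r
  rw [h2]
  have h3 := LineDeg.deg_split Ω (fun j => a j 0) (fun j => hpos j 0)
    (fun j => (Scheme.Modules.pullback (l 0)).obj (L j)) (fun j => hL j 0)
  have h4 : Curv2.deg Ω (CohB1.ProjSpace 1 Ω) (⨁ fun j => (Scheme.Modules.pullback (l 0)).obj (L j)) r =
      ∑ j, a j 0 := h3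
  rw [h4]
  obtain ⟨j, hj⟩ := hsp 0
  exact Finset.sum_pos' (fun j _ => hpos j 0) ⟨j, Finset.mem_univ j, hj⟩

theorem finrank_h0 [ConnectedSpace X] (hX : Curv2.AtWorstNodal Ω X) :
    Module.finrank Ω (Coh.HH X (Coh.structureModule X) 0) = 1 := by
  have := CurvesB.NodeSch2.geometricallyReduced_of_atWorstNodal Ω hX
  have := S2501.result (X ↘ (Spec (CommRingCat.of Ω)))
  exact S1536.result Ω X

/-- The degree of the dualizing module on a component of a semistable curve: it is non-negative, and zero only on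
exceptional components. -/
theorem deg_w_cases [ConnectedSpace X] (hdim : topologicalKrullDim X = 1) (hnod : Curv2.AtWorstNodal Ω X)
    (hg : 2 ≤ Curv2.genus Ω X)
    (hss : ∀ E : Set X, CurvSt.IsSmRatComp Ω X (X ↘ (Spec (CommRingCat.of Ω))) E →
      (2 : ℕ∞) ≤ (CurvSt.meetPts X E).encard)
    {w : X.Modules} (hw : PicF.IsInvertible w) {t : Coh.HH X w 1 →ₗ[Ω] Ω} (ht : CurvesC.DualCount.IsPair Ω t)
    (C : Set X) (hC : C ∈ irreducibleComponents (X : Type u)) :
    0 < @Curv2.deg Ω _ (IC X C hC).subscheme (overC Ω X C hC)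
        ((Scheme.Modules.pullback (IC X C hC).subschemeι).obj w) 1 ∨
      (@Curv2.deg Ω _ (IC X C hC).subscheme (overC Ω X C hC)
        ((Scheme.Modules.pullback (IC X C hC).subschemeι).obj w) 1 = 0 ∧
        VecBal.IsExceptional Ω X (X ↘ (Spec (CommRingCat.of Ω))) C) := by
  have hred := CurvesC.GenusOne512.isReduced_of_atWorstNodal Ω X hnod
  have hN : IsNoetherian X := CurvesC.CurveCoh.noetherianSpace Ω X
  have h0 := finrank_h0 Ω X hnod
  obtain ⟨-, -, hcomp⟩ := Groth.Agent.S1534.result Ω X hdim h0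
  have hC1 := CurvesC.Ample1675.dim_C X hcomp C hC
  have hdeg := deg_w Ω X hdim hnod hw ht C hC
  rcases lt_or_ge 0 (@Curv2.deg Ω _ (IC X C hC).subscheme (overC Ω X C hC)
        ((Scheme.Modules.pullback (IC X C hC).subschemeι).obj w) 1) with hpos | hle
  · exact Or.inl hpos
  right
  have hfin : (C ∩ closure Cᶜ).Finite := (CurvesC.TailGeom.finite_inter hdim.le hC).1
  have hne : C ≠ Set.univ := by
    intro hu
    have h1 := CurvesC.NodalPos2.pos_of_univ Ω X C hC hu hC1 h0 hg (CurvesC.TailNum.finrank_quotMod Ω X _ 1).symm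
    rw [euler_C Ω X C hC hC1, K896.RatComp.finrank_inter Ω X hdim hnod C hC, ← hdeg] at h1
    omega
  have hpos : 0 < (C ∩ closure Cᶜ).ncard := by
    obtain ⟨x⟩ := nonempty_T X C hC hne
    have hx : (IC X C hC ⊔ IX' X C hC).subschemeι x ∈ C ∩ closure Cᶜ := by
      rw [← range_T X C hC]
      exact ⟨x, rfl⟩
    exact (Set.ncard_pos hfin).2 ⟨_, hx⟩
  have h1 : Module.finrank Ω (Coh.HH X (ClSub.quotMod (IC X C hC)) 1) = 0 := by omega
  have hsub : Subsingleton (Coh.HH (IC X C hC).subscheme (Coh.structureModule (IC X C hC).subscheme) 1) := by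
    let _ := CurvesC.TailNum.subOver Ω X (IC X C hC)
    have h2 := CurvesC.TailNum.finrank_quotMod Ω X (IC X C hC) 1
    rw [h1] at h2
    have hf : Module.Finite Ω (Coh.HH (IC X C hC).subscheme (Coh.structureModule (IC X C hC).subscheme) 1) := by
      have hf1 := CurvesC.TailNum.finite_quotMod Ω X (IC X C hC) 1
      exact Module.Finite.equiv (CurvesC.TailNum.quotEquiv Ω X (IC X C hC) 1).symm
    exact Module.finrank_zero_iff.1 h2
  have hsm := K896.TailBridge.isSmRatComp_of_h1 Ω X C hC (hcomp C hC) hsub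
  have hmeet := hss C hsm
  rw [K896.CompMeet.meetPts_eq hC] at hmeet
  have h3 : 2 ≤ (C ∩ closure Cᶜ).ncard := by
    rw [← Set.Finite.cast_ncard_eq hfin] at hmeet
    exact_mod_cast hmeet
  have h4 : (C ∩ closure Cᶜ).ncard = 2 := by omega
  refine ⟨by omega, hsm, ?_⟩
  rw [K896.CompMeet.meetPts_eq hC, ← Set.Finite.cast_ncard_eq hfin, h4]
  rfl

/-- `det E ⊗ ω^m` is ample for `m ≥ |d| + 2r`, `E` properly balanced of rank `r` and degree `d` on a semistable curve of
genus at least two. -/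
theorem isAmple_det_twist [ConnectedSpace X] (hdim : topologicalKrullDim X = 1) (hnod : Curv2.AtWorstNodal Ω X)
    (g : ℕ) (hgen : Curv2.genus Ω X = g) (hg : 2 ≤ g)
    (hss : ∀ E : Set X, CurvSt.IsSmRatComp Ω X (X ↘ (Spec (CommRingCat.of Ω))) E →
      (2 : ℕ∞) ≤ (CurvSt.meetPts X E).encard)
    (r : ℕ) (hr : 1 ≤ r) (d : ℤ) (E : X.Modules) (hE : FlatMod.IsFinLocFreeOfRank r E)
    (hB : VecBal.ProperlyBalanced Ω X (X ↘ (Spec (CommRingCat.of Ω))) E r d g)
    {w : X.Modules} (hw : PicF.IsInvertible w) {t : Coh.HH X w 1 →ₗ[Ω] Ω} (ht : CurvesC.DualCount.IsPair Ω t)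
    (D : X.Modules) (hD : ExtPow.IsExtPow r E D) (hDinv : PicF.IsInvertible D) (m : ℕ) (hm : |d| + 2 * r ≤ m) :
    CohB1.IsAmple (CohB1.tensorMod D (CohB1.tensorPow w m)) := by
  have hred := CurvesC.GenusOne512.isReduced_of_atWorstNodal Ω X hnod
  have hN : IsNoetherian X := CurvesC.CurveCoh.noetherianSpace Ω X
  have h0 := finrank_h0 Ω X hnod
  obtain ⟨-, -, hcomp⟩ := Groth.Agent.S1534.result Ω X hdim h0
  refine CurvesC.AmpleComp.isAmple_of_deg_pos Ω X _
    (Fdesc.LocGen.isInvertible_tensorMod hDinv (isInvertible_tensorPow hw m))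
    (CurvesC.Ample1675.dim_C X hcomp) (fun C hC => ?_)
  have hC1 := CurvesC.Ample1675.dim_C X hcomp C hC
  have hEq : Coh.IsQCoh E := Ega2.QCohLocal.isQCoh_of_isFinLocFree (fun x => by
    obtain ⟨V, hx, e⟩ := hE x
    exact ⟨V, r, hx, e⟩)
  have hcases := deg_w_cases Ω X hdim hnod (hgen ▸ hg) hss hw ht C hC
  have hdeg := deg_w Ω X hdim hnod hw ht C hC
  have hexc := deg_exc Ω X E r hB.2 C hC
  have heul := euler_C Ω X C hC hC1
  have hbal := hB.1 C (isClosed_of_mem_irreducibleComponents C hC)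
    ⟨{C}, Set.singleton_subset_iff.2 hC, Set.singleton_nonempty C, (Set.sUnion_singleton C).symm⟩
  let _ := overC Ω X C hC
  have hP : IsProper ((IC X C hC).subscheme ↘ (Spec (CommRingCat.of Ω))) := inferInstanceAs (IsProper (gC Ω X C hC))
  obtain ⟨φ⟩ := K425.Chart.nonempty_pull_twist (IC X C hC).subschemeι hw (Iso.refl _) (Iso.refl _) m
    (F := D)
  rw [CurvesC.DegIso.deg_congr Ω φ 1]
  have hDC : FlatMod.IsFinLocFreeOfRank 1 ((Scheme.Modules.pullback (IC X C hC).subschemeι).obj D) :=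
    isFinLocFreeOfRank_pull _ (Ega2.QCohLocal.isFinLocFreeOfRank_one_iff.2 hDinv)
  have hWC : FlatMod.IsFinLocFreeOfRank 1 ((Scheme.Modules.pullback (IC X C hC).subschemeι).obj w) :=
    isFinLocFreeOfRank_pull _ (Ega2.QCohLocal.isFinLocFreeOfRank_one_iff.2 hw)
  obtain ⟨hp1, hp2⟩ := K420.DetMain.deg_tensorPow Ω hC1.le hWC m
  have h7 := S7637.result Ω (IC X C hC).subscheme hC1.le 1 1 _ _ hDC hp1
  have hEC : FlatMod.IsFinLocFreeOfRank r ((Scheme.Modules.pullback (IC X C hC).subschemeι).obj E) :=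
    isFinLocFreeOfRank_pull _ hE
  have hdet := K420.DetMain.deg_det Ω hC1 hEC (K583.ExtPowPull.isExtPow_pullback (IC X C hC).subschemeι hEq hD)
  rw [one_mul] at h7
  rw [h7, ← hdet, hp2]
  set e := Curv2.deg Ω (IC X C hC).subscheme ((Scheme.Modules.pullback (IC X C hC).subschemeι).obj E) r with he
  set a := Curv2.deg Ω (IC X C hC).subscheme ((Scheme.Modules.pullback (IC X C hC).subschemeι).obj w) 1 with ha
  push_cast
  rcases hcases with h1 | ⟨h1, h2⟩
  · have hb' : 2 * |(2 * (g : ℤ) - 2) * e - d * a| ≤ (r : ℤ) * ((C ∩ closure Cᶜ).ncard : ℤ) * (2 * (g : ℤ) - 2) := by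
      have h8 : a = ((C ∩ closure Cᶜ).ncard : ℤ) -
          2 * Curv2.euler Ω (IC X C hC).subscheme (Coh.structureModule (IC X C hC).subscheme) := by
        rw [hdeg, heul]
      rw [h8]
      exact hbal
    have := num_pos (g := (g : ℤ)) (r := (r : ℤ)) (d := d) (e := e) (a := a) (δ := ((C ∩ closure Cᶜ).ncard : ℤ))
      (m := (m : ℤ)) (by exact_mod_cast hg) (by exact_mod_cast hr) h1 (by omega) hb' (by exact_mod_cast hm)
    linarith
  · have := hexc h2
    rw [h1]
    linarith

end Groth.Agent.VecBal.K812.VAmple
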