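import Groth.Agent.VecBal.K812.SemiIff
import Groth.Agent.CurvSt.K900.SemiOpen

/-!
# Openness of semistability for families of curves: `OpenStmt`
-/

set_option autoImplicit false
universe u

open CategoryTheory CategoryTheory.Limits AlgebraicGeometry TopologicalSpace

namespace Groth.Agent.VecBal.K812.OpenAsm

open Groth.Agent Groth.Agent.VecBal.K812.Iface K902.SchSet K902.SchInst K900.SemiOpen K900.StabOpen

/-- Semistable curves of genus `g ≥ 1` in terms of the open condition of `K900.SemiOpen`. -/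
theorem semi_iff (Ω : Type u) [Field Ω] [IsAlgClosed Ω] (X : Scheme.{u}) (q : X ⟶ Spec (CommRingCat.of Ω))
    [IsProper q] (g : ℕ) (hg : 1 ≤ g) : VecSt.IsSemistablePtd Ω X q g ↔
      (NodConn Ω X q ∧ SemiP Ω X q) ∧ @Curv2.genus Ω _ X ⟨q⟩ = g := by
  let _ : X.Over (Spec (CommRingCat.of Ω)) := ⟨q⟩
  have hq : IsProper (X ↘ (Spec (CommRingCat.of Ω))) := inferInstanceAs (IsProper q)
  have hlfp : LocallyOfFinitePresentation q := LocallyOfFinitePresentation.iff_locallyOfFiniteType.2 inferInstance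
  rw [SemiIff.isSemistablePtd_iff Ω X q g hg]
  constructor
  · rintro ⟨-, h2, h3, ⟨h4, h5⟩, h6⟩
    have hred := CurvesC.GenusOne512.isReduced_of_atWorstNodal Ω X h4
    have hgr := CurvesB.NodeSch2.geometricallyReduced_of_atWorstNodal Ω h4
    have hgc := S2501.result (X ↘ (Spec (CommRingCat.of Ω)))
    have h0 := S1536.result Ω X
    obtain ⟨-, -, hcomp⟩ := Groth.Agent.S1534.result Ω X h3 h0
    exact ⟨⟨⟨(K901.SchPre.isNodalFamily_iff q).1 ((K901.SchPre.nodal_field_iff q).1 ⟨h4, hcomp⟩), h2⟩,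
      by rw [h5]; exact hg, h6⟩, h5⟩
  · rintro ⟨⟨h1, h2⟩, h3⟩
    have h4 := (K901.SchPre.nodal_field_iff (K := Ω) q).2 ((K901.SchPre.isNodalFamily_iff q).2 h1.1)
    have := h1.2
    exact ⟨inferInstance, h1.2, CurvesB.NodalFibreH.topologicalKrullDim_eq_one_of_components h4.2,
      ⟨h4.1, h3⟩, h2.2⟩

/-- **Openness of semistability.** -/
theorem main : OpenStmt.{u} := by
  intro C T f hf hp hl g hg Ω _ _ t X a q sq h
  obtain ⟨U, hU, key⟩ := SchOpen.genus schOpen_semi (fun Ω _ _ X q hq h => hOne_nodConn Ω X q hq h.1) g C T f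
  have hq : IsProper q := MorphismProperty.of_isPullback sq inferInstance
  refine ⟨⟨U, hU⟩, (key Ω t X a q sq).1 ((semi_iff Ω X q g (by omega)).1 h), ?_⟩
  have sqU : IsPullback (f ⁻¹ᵁ ⟨U, hU⟩).ι (f ∣_ ⟨U, hU⟩) f (Scheme.Opens.ι ⟨U, hU⟩) :=
    (isPullback_morphismRestrict f _).flip
  refine ⟨MorphismProperty.of_isPullback sqU hf, MorphismProperty.of_isPullback sqU hp, ?_⟩
  intro Ω' _ _ t' X' i' q' sq'
  have hq' : IsProper q' := MorphismProperty.of_isPullback (sq'.paste_horiz sqU) inferInstance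
  refine (semi_iff Ω' X' q' g (by omega)).2 ((key Ω' _ X' _ q' (sq'.paste_horiz sqU)).2 ?_)
  rw [Scheme.Hom.comp_apply]
  exact (t' (IsLocalRing.closedPoint Ω')).2

end Groth.Agent.VecBal.K812.OpenAsm
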