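import Groth.Prelude.Def_VecBal
import Groth.Prelude.Def_DescFam
import Groth.Prelude.Def_CohB1
import Mathlib.AlgebraicGeometry.Geometrically.Connected
import Mathlib.AlgebraicGeometry.Geometrically.Reduced

/-!
# The stack of properly balanced bundles: interface of the nodes

S19777 (`Vecrdg` is an fpqc stack) and S19776 (its diagonal) are assembled from the `…Stmt` below.
-/

set_option autoImplicit false
universe u

open CategoryTheory CategoryTheory.Limits AlgebraicGeometry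

namespace Groth.Agent.VecBal.K812.Iface

/-! ### J1: polarized fpqc descent over an affine base -/

/-- `L` is isomorphic to its transports under the descent datum `D`, over affine test schemes `Z → S' ×_S S'`
(NO cocycle condition on the isomorphisms): for `v : T → D.obj` the projection of the base change of `D.obj` along
`x₀ : Z → S'` and `v'` its transport over `x₁`, `v^* L ≅ v'^* L`. -/
def PolDatum {S' S : Scheme.{u}} (p : S' ⟶ S) (D : Desc.SchDD p) (L : D.obj.left.Modules) : Prop :=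
  ∀ (Z : Scheme.{u}), IsAffine Z → ∀ (x₀ x₁ : Z ⟶ S') (h : x₀ ≫ p = x₁ ≫ p) (T : Scheme.{u}) (t : T ⟶ Z)
    (v : T ⟶ D.obj.left) (sq : IsPullback v t D.obj.hom x₀),
    Nonempty ((Scheme.Modules.pullback v).obj L ≅ (Scheme.Modules.pullback
      (D.φ (t ≫ x₀) (t ≫ x₁) (by rw [Category.assoc, Category.assoc, h]) ⟨v, sq.w⟩).1).obj L)

/-- J1. Effectivity of a polarized descent datum along a flat surjective morphism of affine schemes. -/
def PolAffStmt : Prop :=
  ∀ (S' S : Scheme.{u}) (p : S' ⟶ S), IsAffine S' → IsAffine S → Flat p → Surjective p →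
    ∀ (D : Desc.SchDD p), IsProper D.obj.hom → Flat D.obj.hom → LocallyOfFinitePresentation D.obj.hom →
      GeometricallyConnected D.obj.hom → GeometricallyReduced D.obj.hom →
      ∀ (L : D.obj.left.Modules), CohB1.IsAmple L → PolDatum p D L →
        ∃ W : Over S, Nonempty ((Desc.toDD p).obj W ≅ D)

/-! ### The objects -/

/-- The condition on the objects of `VecBal.Vecrdg`. -/
def FamCond (g r : ℕ) (d : ℤ) {C T : Scheme.{u}} (f : C ⟶ T) (E : C.Modules) : Prop :=
  VecSt.IsSemistableFam f g ∧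
    (VecSt.IsVB f E r ∧ VecSt.FibDeg f E r d ∧ VecSt.Fibrewise f E (VecBal.PB r d g))

/-! ### J2: local finite presentation -/

/-- J2. A family of semistable curves of genus `g ≥ 2` (flat and proper only!) is locally of finite presentation. -/
def LfpStmt : Prop :=
  ∀ (C T : Scheme.{u}) (f : C ⟶ T) (g : ℕ), 2 ≤ g → VecSt.IsSemistableFam f g → LocallyOfFinitePresentation f

/-- J2a. Near a point `s` a flat proper family is a closed subscheme of a flat proper family `f₀` which is locally of finite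
presentation, with the same fibre over `s`. -/
def ModelStmt : Prop :=
  ∀ (C T : Scheme.{u}) (f : C ⟶ T), Flat f → IsProper f → IsAffine T → ∀ s : T,
    ∃ (T' : Scheme.{u}) (j : T' ⟶ T) (s' : T') (C' C₀ : Scheme.{u}) (k : C' ⟶ C) (f' : C' ⟶ T') (i : C' ⟶ C₀)
      (f₀ : C₀ ⟶ T'), IsOpenImmersion j ∧ j s' = s ∧ IsAffine T' ∧ IsPullback k f' f j ∧ IsClosedImmersion i ∧
      i ≫ f₀ = f' ∧ IsProper f₀ ∧ Flat f₀ ∧ LocallyOfFinitePresentation f₀ ∧
      (∀ y : C₀, f₀ y = s' → ∃ x : C', i x = y ∧ Function.Bijective (i.stalkMap x))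

/-- J2b. A closed immersion into a flat family locally of finite presentation from a flat family is an isomorphism if it is so
on all geometric fibres. -/
def IsoFibStmt : Prop :=
  ∀ (C C₀ T : Scheme.{u}) (f : C ⟶ T) (f₀ : C₀ ⟶ T) (i : C ⟶ C₀), i ≫ f₀ = f → Flat f → Flat f₀ →
    LocallyOfFinitePresentation f₀ → IsClosedImmersion i →
    (∀ (Ω : Type u) [Field Ω] [IsAlgClosed Ω] (t : Spec (CommRingCat.of Ω) ⟶ T) (X Y : Scheme.{u}) (a : X ⟶ C)
      (q : X ⟶ Spec (CommRingCat.of Ω)) (b : Y ⟶ C₀) (q₀ : Y ⟶ Spec (CommRingCat.of Ω)) (l : X ⟶ Y),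
      IsPullback a q f t → IsPullback b q₀ f₀ t → l ≫ b = a ≫ i → l ≫ q₀ = q → IsIso l) → IsIso i

/-- J2c. A closed subcurve which is semistable of the same genus `g ≥ 2` is everything. -/
def SubcurveStmt : Prop :=
  ∀ (Ω : Type u) [Field Ω] [IsAlgClosed Ω] (X Y : Scheme.{u}) (q : X ⟶ Spec (CommRingCat.of Ω))
    (q₀ : Y ⟶ Spec (CommRingCat.of Ω)) (i : X ⟶ Y) (g : ℕ), i ≫ q₀ = q → IsClosedImmersion i → 2 ≤ g →
    VecSt.IsSemistablePtd Ω X q g → VecSt.IsSemistablePtd Ω Y q₀ g → IsIso i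

/-- J2d. The locus of semistable fibres of genus `g ≥ 2` of a flat proper family locally of finite presentation is open. -/
def OpenStmt : Prop :=
  ∀ (C T : Scheme.{u}) (f : C ⟶ T), Flat f → IsProper f → LocallyOfFinitePresentation f → ∀ g : ℕ, 2 ≤ g →
    ∀ (Ω : Type u) [Field Ω] [IsAlgClosed Ω] (t : Spec (CommRingCat.of Ω) ⟶ T) (X : Scheme.{u}) (a : X ⟶ C)
      (q : X ⟶ Spec (CommRingCat.of Ω)), IsPullback a q f t → VecSt.IsSemistablePtd Ω X q g →
    ∃ U : T.Opens, t (IsLocalRing.closedPoint Ω) ∈ U ∧ VecSt.IsSemistableFam (f ∣_ U) g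

/-! ### J3: fpqc descent of the conditions -/

/-- Extensions of algebraically closed fields: `X' = X ×_Ω Ω'`. -/
structure Ext (Ω Ω' : Type u) [Field Ω] [Field Ω'] {X X' : Scheme.{u}} (q : X ⟶ Spec (CommRingCat.of Ω))
    (q' : X' ⟶ Spec (CommRingCat.of Ω')) (i : X' ⟶ X) : Prop where
  out : ∃ e : Spec (CommRingCat.of Ω') ⟶ Spec (CommRingCat.of Ω), IsPullback i q' q e

/-- J3a. -/
def SsDescStmt : Prop :=
  ∀ (Ω Ω' : Type u) [Field Ω] [IsAlgClosed Ω] [Field Ω'] [IsAlgClosed Ω'] (X X' : Scheme.{u})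
    (q : X ⟶ Spec (CommRingCat.of Ω)) (q' : X' ⟶ Spec (CommRingCat.of Ω')) (i : X' ⟶ X), Ext Ω Ω' q q' i →
    IsProper q → ∀ g : ℕ, VecSt.IsSemistablePtd Ω' X' q' g → VecSt.IsSemistablePtd Ω X q g

/-- J3b. -/
def BalDescStmt : Prop :=
  ∀ (Ω Ω' : Type u) [Field Ω] [IsAlgClosed Ω] [Field Ω'] [IsAlgClosed Ω'] (X X' : Scheme.{u})
    (q : X ⟶ Spec (CommRingCat.of Ω)) (q' : X' ⟶ Spec (CommRingCat.of Ω')) (i : X' ⟶ X), Ext Ω Ω' q q' i →
    ∀ (g r : ℕ) (d : ℤ), VecSt.IsSemistablePtd Ω X q g → ∀ (E : X.Modules), FlatMod.IsFinLocFreeOfRank r E →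
    ((letI : X'.Over (Spec (CommRingCat.of Ω')) := ⟨q'⟩
      Curv2.deg Ω' X' ((Scheme.Modules.pullback i).obj E) r = d) →
      letI : X.Over (Spec (CommRingCat.of Ω)) := ⟨q⟩
      Curv2.deg Ω X E r = d) ∧
    (VecSt.Balanced Ω' X' q' ((Scheme.Modules.pullback i).obj E) r d g → VecSt.Balanced Ω X q E r d g)

/-- J3c. -/
def AdmDescStmt : Prop :=
  ∀ (Ω Ω' : Type u) [Field Ω] [IsAlgClosed Ω] [Field Ω'] [IsAlgClosed Ω'] (X X' : Scheme.{u})
    (q : X ⟶ Spec (CommRingCat.of Ω)) (q' : X' ⟶ Spec (CommRingCat.of Ω')) (i : X' ⟶ X), Ext Ω Ω' q q' i →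
    ∀ (g r : ℕ), VecSt.IsSemistablePtd Ω X q g → ∀ (E : X.Modules), FlatMod.IsFinLocFreeOfRank r E →
    VecBal.IsAdmissible Ω' X' q' ((Scheme.Modules.pullback i).obj E) r → VecBal.IsAdmissible Ω X q E r

/-- J3. The conditions on the objects descend along fpqc coverings of the base. -/
def CondDescStmt : Prop :=
  ∀ (g r : ℕ) (d : ℤ) (C T : Scheme.{u}) (f : C ⟶ T) (E : C.Modules), Coh.IsQCoh E →
    ∀ (ι : Type u) (X : ι → Scheme.{u}) (u : ∀ i, X i ⟶ T), Presieve.ofArrows X u ∈ Scheme.fpqcPrecoverage T →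
    (∀ i, ∃ (C' : Scheme.{u}) (top : C' ⟶ C) (f' : C' ⟶ X i), IsPullback top f' f (u i) ∧
      FamCond g r d f' ((Scheme.Modules.pullback top).obj E)) → FamCond g r d f E

/-! ### J4: the canonical polarization -/

/-- J4. Over affine bases there is an ample module on the total space, unique and stable under base change up to isomorphism
(`det E ⊗ ω^m`). -/
def PolStmt : Prop :=
  ∀ (g r : ℕ) (d : ℤ), 2 ≤ g → 1 ≤ r →
    ∃ Pol : ∀ {C T : Scheme.{u}} (_ : C ⟶ T) (_ _ : C.Modules), Prop,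
      (∀ (C T : Scheme.{u}) (f : C ⟶ T) (E : C.Modules), IsAffine T → FamCond g r d f E →
        ∃ L : C.Modules, Pol f E L) ∧
      (∀ (C T : Scheme.{u}) (f : C ⟶ T) (E L : C.Modules), IsAffine T → FamCond g r d f E → Pol f E L →
        CohB1.IsAmple L) ∧
      (∀ (C C' T T' : Scheme.{u}) (f : C ⟶ T) (f' : C' ⟶ T') (top : C' ⟶ C) (b : T' ⟶ T) (E L : C.Modules)
        (E' L' : C'.Modules), IsAffine T → IsAffine T' → IsPullback top f' f b →
        Nonempty ((Scheme.Modules.pullback top).obj E ≅ E') → FamCond g r d f E → Pol f E L → Pol f' E' L' →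
        Nonempty ((Scheme.Modules.pullback top).obj L ≅ L'))

/-! ### J5: objects over algebraically closed fields -/

/-- J5. The second conjunct of S19776 and S19777. -/
def NonemptyStmt : Prop :=
  ∀ (k : Type u) [Field k] [IsAlgClosed k] [CharZero k] (g r : ℕ) (d : ℤ), 2 ≤ g → 1 ≤ r →
    ∀ (Ω : Type u) [Field Ω] [IsAlgClosed Ω] (t : Spec (CommRingCat.of Ω) ⟶ Spec (CommRingCat.of k)),
      Nonempty ((VecBal.Vecrdg (Spec (CommRingCat.of k)) g r d).p.Fiber (Over.mk t))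

/-! ### J6: the diagonal -/

/-- J6. The first conjunct of S19776. -/
def DiagStmt : Prop :=
  ∀ (k : Type u) [Field k] [IsAlgClosed k] [CharZero k] (g r : ℕ) (d : ℤ), 2 ≤ g → 1 ≤ r →
    AlgSt.RepByAlgSpWith
      (AlgSp.RepWith (fun (X Y : Scheme.{u}) (f : X ⟶ Y) => QuasiCompact f ∧ IsSeparated f))
      (FibCat.diag (FibCat.toSelf (VecBal.Vecrdg (Spec (CommRingCat.of k)) g r d)))

/-! ### J7: the stack condition -/

/-- J7. Generic: a full subcategory of `VecSt.Fam S 0` is an fpqc stack if its objects are quasi-coherent, stable under base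
change, the condition is local for fpqc coverings, and descent data of the schemes underlying its objects are effective. -/
def Effective {S : Scheme.{u}} (Q : VecSt.Obj S 0 → Prop) : Prop :=
  ∀ (T : Scheme.{u}) (b : T ⟶ S) (ι : Type u) (X : ι → Scheme.{u}) (u : ∀ i, X i ⟶ T),
    Presieve.ofArrows X u ∈ Scheme.fpqcPrecoverage T → ∀ (D : Desc.SchDDFam u)
    (E : ∀ i, (D.obj i).left.Modules),
    (∀ i, Q { base := Over.mk (u i ≫ b), C := (D.obj i).left, f := (D.obj i).hom, sect := Fin.elim0,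
              sect_f := fun j => j.elim0, E := E i }) →
    (∀ (Z : Scheme.{u}) (i j : ι) (x₀ : Z ⟶ X i) (x₁ : Z ⟶ X j) (h : x₀ ≫ u i = x₁ ≫ u j) (P : Scheme.{u}) (t : P ⟶ Z)
      (v : P ⟶ (D.obj i).left) (sq : IsPullback v t (D.obj i).hom x₀),
      Nonempty ((Scheme.Modules.pullback v).obj (E i) ≅ (Scheme.Modules.pullback
        (D.φ (t ≫ x₀) (t ≫ x₁) (by rw [Category.assoc, Category.assoc, h]) ⟨v, sq.w⟩).1).obj (E j))) →
    D.IsEffective

/-- J7. -/
def StackStmt : Prop :=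
  ∀ (S : Scheme.{u}) (Q : VecSt.Obj S 0 → Prop),
    (∀ (A B : VecSt.Obj S 0) (_ : A ⟶ B), Q B → Q A) → (∀ A, Q A → Coh.IsQCoh A.E) →
    (∀ (B : VecSt.Obj S 0), Coh.IsQCoh B.E → ∀ (ι : Type u) (A : ι → VecSt.Obj S 0) (φ : ∀ i, A i ⟶ B),
      Presieve.ofArrows (fun i => (A i).base.left) (fun i => (φ i).hom.base.left) ∈
        Scheme.fpqcPrecoverage B.base.left → (∀ i, Q (A i)) → Q B) →
    Effective Q → Stk.IsStack (QuotSh.J Scheme.fpqcPrecoverage S) (AlgSt.fullSub (VecSt.Fam S 0) Q)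

/-- J8. Descent data of properly balanced families are effective (from `PolAffStmt`, `PolStmt`, `LfpStmt`). -/
def EffStmt : Prop :=
  ∀ (S : Scheme.{u}) (g r : ℕ) (d : ℤ), 2 ≤ g → 1 ≤ r →
    Effective (S := S) (fun A => FamCond g r d A.f A.E)

end Groth.Agent.VecBal.K812.Iface
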