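import Groth.Agent.VecBal.K812.FlatKer
import Groth.Agent.FamCyc.K812.RigidGeo
import Groth.Agent.VecBal.K812.Iface

/-!
# Flat closed subschemes with the same fibre as the ambient scheme

`germ_eq_zero`: `f₀ : C₀ ⟶ T` locally of finite presentation, `I` an ideal sheaf with flat zero scheme; if the inverse image of
`I` on a fibre `C₀ ×_T Spec Ω` is zero then the stalks of `I` at the points of this fibre vanish.
`isoFib`: the statement `Iface.IsoFibStmt`.
-/

set_option autoImplicit false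
universe u

open CategoryTheory CategoryTheory.Limits AlgebraicGeometry TopologicalSpace Opposite
open scoped TensorProduct

namespace Groth.Agent.VecBal.K812.LFib

open Groth.Agent

variable {C₀ T : Scheme.{u}}

theorem tmul_eq_zero_of_isPushout {R S Ω P : Type u} [CommRing R] [CommRing S] [CommRing Ω] [CommRing P] [Algebra R S]
    [Algebra R Ω] (a : CommRingCat.of S ⟶ CommRingCat.of P) (b : CommRingCat.of Ω ⟶ CommRingCat.of P)
    (h : IsPushout (CommRingCat.ofHom (algebraMap R S)) (CommRingCat.ofHom (algebraMap R Ω)) a b) (x : S)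
    (hx : a.hom x = 0) : x ⊗ₜ[R] (1 : Ω) = 0 := by
  let e := IsPushout.isoIsPushout _ _ (CommRingCat.isPushout_tensorProduct R S Ω) h
  have h1 : e.hom.hom (x ⊗ₜ[R] (1 : Ω)) = a.hom x := by
    have h2 := IsPushout.inl_isoIsPushout_hom _ _ (CommRingCat.isPushout_tensorProduct R S Ω) h
    exact congrArg (fun φ => φ.hom x) h2
  rw [hx] at h1
  exact (e.commRingCatIsoToRingEquiv.injective (h1.trans (map_zero _).symm))

/-- The stalk of a flat ideal at a point of a fibre on which it dies. -/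
theorem germ_eq_zero (f₀ : C₀ ⟶ T) [LocallyOfFinitePresentation f₀] (I : C₀.IdealSheafData)
    [Flat (I.subschemeι ≫ f₀)] (y : C₀) (Ω : Type u) [Field Ω] (t : Spec (CommRingCat.of Ω) ⟶ T)
    (ht : t (IsLocalRing.closedPoint Ω) = f₀ y) (hI : I.comap (pullback.fst f₀ t) = ⊥) (U : C₀.affineOpens)
    (hy : y ∈ U.1) (x : Γ(C₀, U.1)) (hx : x ∈ I.ideal U) : C₀.presheaf.germ U.1 y hy x = 0 := by
  obtain ⟨V, hV, hyV, -⟩ := exists_isAffineOpen_mem_and_subset (x := f₀ y) (U := (⊤ : T.Opens)) trivial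
  obtain ⟨U', hU', hyU', hle⟩ := exists_isAffineOpen_mem_and_subset (x := y) (U := U.1 ⊓ f₀ ⁻¹ᵁ V) ⟨hy, hyV⟩
  have hle1 : U' ≤ U.1 := hle.trans inf_le_left
  have hle2 : U' ≤ f₀ ⁻¹ᵁ V := hle.trans inf_le_right
  let x' : Γ(C₀, U') := C₀.presheaf.map (homOfLE hle1).op x
  have hx' : x' ∈ I.ideal ⟨U', hU'⟩ := I.ideal_le_comap_ideal (U := ⟨U', hU'⟩) (V := U) hle1 hx
  have h1 : C₀.presheaf.germ U.1 y hy x = C₀.presheaf.germ U' y hyU' x' := by
    exact (C₀.presheaf.germ_res_apply (homOfLE hle1) y hyU' x).symm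
  rw [h1]
  let _ : Algebra Γ(T, V) Γ(C₀, U') := (f₀.appLE V U' hle2).hom.toAlgebra
  have hlt : (⊤ : (Spec (CommRingCat.of Ω)).Opens) ≤ t ⁻¹ᵁ V := by
    intro z _
    have : z = IsLocalRing.closedPoint Ω := Subsingleton.elim _ _
    rw [this]
    change t _ ∈ V
    rw [ht]
    exact hyV
  let Ω' := Γ(Spec (CommRingCat.of Ω), ⊤)
  have hfield : IsField Ω' := (Scheme.ΓSpecIso (CommRingCat.of Ω)).commRingCatIsoToRingEquiv.toMulEquiv.isField
    (Field.toIsField Ω)
  let _ : Field Ω' := hfield.toField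
  let _ : Algebra Γ(T, V) Ω' := (t.appLE V ⊤ hlt).hom.toAlgebra
  have hfp : Algebra.FinitePresentation Γ(T, V) Γ(C₀, U') := f₀.finitePresentation_appLE hV hU' hle2
  have hfl : Module.Flat Γ(T, V) (Γ(C₀, U') ⧸ I.ideal ⟨U', hU'⟩) :=
    Flat2D.PicZSch.flat_quotient_appLE f₀ I hV ⟨U', hU'⟩ hle2
  let q := hU'.primeIdealOf ⟨y, hyU'⟩
  have hp : RingHom.ker (algebraMap Γ(T, V) Ω') = q.asIdeal.comap (algebraMap Γ(T, V) Γ(C₀, U')) := by
    have h2 := IsAffineOpen.comap_primeIdealOf_appLE V hV U' hU' hle2 hyU'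
    have h3 := IsAffineOpen.comap_primeIdealOf_appLE (f := t) (x := IsLocalRing.closedPoint Ω) V hV ⊤
      (isAffineOpen_top _) hlt trivial
    have h4 : ((isAffineOpen_top (Spec (CommRingCat.of Ω))).primeIdealOf ⟨IsLocalRing.closedPoint Ω, trivial⟩).asIdeal
        = ⊥ := by
      have hprime := ((isAffineOpen_top (Spec (CommRingCat.of Ω))).primeIdealOf
        ⟨IsLocalRing.closedPoint Ω, trivial⟩).isPrime
      rcases Ideal.eq_bot_or_top (K := Ω') ((isAffineOpen_top (Spec (CommRingCat.of Ω))).primeIdealOf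
        ⟨IsLocalRing.closedPoint Ω, trivial⟩).asIdeal with h | h
      · exact h
      · exact absurd h hprime.ne_top
    have h5 : hV.primeIdealOf ⟨t (IsLocalRing.closedPoint Ω), hlt trivial⟩ = hV.primeIdealOf ⟨f₀ y, hyV⟩ := by
      congr 1
      exact Subtype.ext ht
    have h6 := congrArg PrimeSpectrum.asIdeal (h3.trans (h5.trans h2.symm))
    rw [PrimeSpectrum.comap_asIdeal, PrimeSpectrum.comap_asIdeal, h4] at h6
    exact h6
  have hK : ∀ z ∈ I.ideal ⟨U', hU'⟩, z ⊗ₜ[Γ(T, V)] (1 : Ω') = 0 := by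
    intro z hz
    have H : IsPullback (pullback.fst f₀ t) (pullback.snd f₀ t) f₀ t := IsPullback.of_hasPullback _ _
    have hpo := FamCyc.K812.RigidGeo.isPushout_sections H (US := V) (UT := ⊤) (UX := U') hlt hle2
      (UY := pullback.fst f₀ t ⁻¹ᵁ U') (by simp) hV (isAffineOpen_top _) hU' le_rfl le_top
    refine tmul_eq_zero_of_isPushout _ _ hpo z ?_
    refine TopCat.Presheaf.IsSheaf.section_ext (pullback f₀ t).sheaf.2 fun w hw => ?_
    obtain ⟨W, hW, hwW, hWle⟩ := exists_isAffineOpen_mem_and_subset (x := w) (U := pullback.fst f₀ t ⁻¹ᵁ U') hw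
    refine ⟨W, hWle, hwW, ?_⟩
    have h7 := Divis.IdealComap.ideal_comap I (pullback.fst f₀ t) ⟨U', hU'⟩ ⟨W, hW⟩ hWle
    rw [hI] at h7
    have h8 : ((pullback.fst f₀ t).appLE U' W hWle).hom z ∈ (⊥ : (pullback f₀ t).IdealSheafData).ideal ⟨W, hW⟩ := by
      rw [h7]
      exact Ideal.mem_map_of_mem _ hz
    have h9 : ((pullback.fst f₀ t).appLE U' W hWle).hom z = 0 := by simpa using h8
    have h10 := Scheme.Hom.appLE_map (pullback.fst f₀ t) (U := U') (V := pullback.fst f₀ t ⁻¹ᵁ U') (V' := W) le_rfl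
      (homOfLE hWle).op
    exact (congrArg (fun φ => φ.hom z) h10).trans (h9.trans
      (map_zero ((pullback f₀ t).presheaf.map (homOfLE hWle).op).hom).symm)
  obtain ⟨s, hs, hsx⟩ := FlatKer.exists_mul_eq_zero (R := Γ(T, V)) (I.ideal ⟨U', hU'⟩) q.asIdeal Ω' hp hK x' hx'
  let _ := C₀.presheaf.algebra_section_stalk ⟨y, hyU'⟩
  have hloc := hU'.isLocalization_stalk ⟨y, hyU'⟩
  have h5 : algebraMap Γ(C₀, U') (C₀.presheaf.stalk y) x' = 0 :=
    (IsLocalization.map_eq_zero_iff q.asIdeal.primeCompl _ _).2 ⟨⟨s, hs⟩, hsx⟩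
  exact h5

/-- Flatness of the zero scheme of the ideal of a closed immersion. -/
theorem flat_ker {C : Scheme.{u}} (i : C ⟶ C₀) [IsClosedImmersion i] (f₀ : C₀ ⟶ T) [hf : Flat (i ≫ f₀)] :
    Flat (i.ker.subschemeι ≫ f₀) := by
  have h1 : inv i.toImage ≫ (i ≫ f₀) = i.ker.subschemeι ≫ f₀ := by
    rw [IsIso.inv_comp_eq]
    exact (congrArg (· ≫ f₀) i.toImage_imageι.symm).trans (Category.assoc _ _ _)
  rw [← h1]
  infer_instance

/-- The inverse image of the ideal of a closed immersion is the ideal of its base change. -/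
theorem comap_ker {C Y X : Scheme.{u}} (i : C ⟶ C₀) [IsClosedImmersion i] (b : Y ⟶ C₀) (l : X ⟶ Y) (a : X ⟶ C)
    (sq : IsPullback a l i b) : i.ker.comap b = l.ker := by
  have h2 : IsPullback (a ≫ i.toImage) l i.ker.subschemeι b := by
    have h1 : IsPullback i.toImage i i.ker.subschemeι (𝟙 C₀) :=
      IsPullback.of_horiz_isIso ⟨i.toImage_imageι.trans (Category.comp_id _).symm⟩
    have := sq.paste_horiz h1
    rwa [Category.comp_id] at this
  let e : X ≅ pullback b i.ker.subschemeι := h2.flip.isoPullback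
  have h3 : e.hom ≫ pullback.fst b i.ker.subschemeι = l := h2.flip.isoPullback_hom_fst
  rw [← h3, Scheme.Hom.ker_comp_of_isIso]
  rfl

/-- If the base change of `i` to a geometric fibre is an isomorphism, the ideal of `i` dies there. -/
theorem comap_eq_bot {C : Scheme.{u}} (f₀ : C₀ ⟶ T) (i : C ⟶ C₀) [IsClosedImmersion i] {Z : Scheme.{u}} (t : Z ⟶ T)
    (h : ∀ (X Y : Scheme.{u}) (a : X ⟶ C) (q : X ⟶ Z) (b : Y ⟶ C₀) (q₀ : Y ⟶ Z) (l : X ⟶ Y),
      IsPullback a q (i ≫ f₀) t → IsPullback b q₀ f₀ t → l ≫ b = a ≫ i → l ≫ q₀ = q → IsIso l) :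
    i.ker.comap (pullback.fst f₀ t) = ⊥ := by
  have H : IsPullback (pullback.fst f₀ t) (pullback.snd f₀ t) f₀ t := IsPullback.of_hasPullback _ _
  have H' : IsPullback (pullback.fst i (pullback.fst f₀ t)) (pullback.snd i (pullback.fst f₀ t)) i
    (pullback.fst f₀ t) := IsPullback.of_hasPullback _ _
  have hiso : IsIso (pullback.snd i (pullback.fst f₀ t)) :=
    h _ _ (pullback.fst i (pullback.fst f₀ t)) (pullback.snd i (pullback.fst f₀ t) ≫ pullback.snd f₀ t)
      (pullback.fst f₀ t) (pullback.snd f₀ t) _ (H'.paste_vert H) H H'.w.symm rfl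
  rw [comap_ker i (pullback.fst f₀ t) (pullback.snd i (pullback.fst f₀ t)) _ H']
  exact Scheme.Hom.ker_eq_bot_of_isIso _

/-- A closed immersion into a family locally of finite presentation from a flat family is an isomorphism if it is so on all
geometric fibres. -/
theorem isoFib : Iface.IsoFibStmt.{u} := by
  intro C C₀ T f f₀ i hi hf hf₀ hlfp hcl hiso
  subst hi
  rw [IsClosedImmersion.isIso_iff_ker_eq_bot]
  have hfl : Flat (i.ker.subschemeι ≫ f₀) := flat_ker i f₀
  refine Scheme.IdealSheafData.ext (funext fun U => ?_)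
  rw [Scheme.IdealSheafData.ideal_bot, Pi.bot_apply, eq_bot_iff]
  intro x hx
  have h0 : ∀ (y : C₀) (hy : y ∈ U.1), C₀.presheaf.germ U.1 y hy x = C₀.presheaf.germ U.1 y hy 0 := by
    intro y hy
    rw [map_zero]
    let Ω : Type u := AlgebraicClosure (T.residueField (f₀ y))
    let t : Spec (CommRingCat.of Ω) ⟶ T :=
      Spec.map (CommRingCat.ofHom (algebraMap (T.residueField (f₀ y)) Ω)) ≫ T.fromSpecResidueField (f₀ y)
    have ht : t (IsLocalRing.closedPoint Ω) = f₀ y := by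
      rw [Scheme.Hom.comp_apply]
      exact Scheme.fromSpecResidueField_apply _ _
    refine germ_eq_zero f₀ i.ker y Ω t ht ?_ U hy x hx
    exact comap_eq_bot f₀ i t (fun X Y a q b q₀ l h1 h2 h3 h4 => hiso Ω t X Y a q b q₀ l h1 h2 h3 h4)
  exact TopCat.Presheaf.section_ext C₀.sheaf U.1 x 0 h0

end Groth.Agent.VecBal.K812.LFib
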