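import Groth.Agent.VecBal.K812.LfpAsm
import Groth.Agent.VecBal.K812.OpenAsm
import Groth.Agent.VecBal.K997.J2a
import Groth.Agent.VecBal.K236.Subcurve

/-!
# Families of semistable curves of genus `g ≥ 2` are locally of finite presentation
-/

set_option autoImplicit false
universe u

namespace Groth.Agent.VecBal.K812.Lfp

/-- **Families of semistable curves of genus `g ≥ 2` (flat and proper only) are locally of finite presentation.** -/
theorem main : Groth.Agent.VecBal.K812.Iface.LfpStmt.{u} :=
  Groth.Agent.VecBal.K812.LfpAsm.main K997.J2a.main K236.Subcurve.main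
    Groth.Agent.VecBal.K812.OpenAsm.main

end Groth.Agent.VecBal.K812.Lfp
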