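import Groth.Agent.ModSt.K927.RkOpen
import Groth.Agent.S9769
import Groth.Prelude.Def_VecSt

/-!
# A vector bundle on a family of curves is finite locally free on the total space

`isFinLocFreeOfRank`: for `f` locally of finite presentation.
-/

set_option autoImplicit false
universe u

open CategoryTheory CategoryTheory.Limits AlgebraicGeometry

namespace Groth.Agent.VecBal.K812.LocFree

/-- Every point of the total space is the image of a point of a geometric fibre. -/
theorem exists_geom {C T : Scheme.{u}} (f : C ⟶ T) (x : C) :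
    ∃ (Ω : Type u) (_ : Field Ω) (_ : IsAlgClosed Ω) (t : Spec (CommRingCat.of Ω) ⟶ T)
      (x' : (pullback f t : Scheme.{u})), pullback.fst f t x' = x := by
  let Ω := AlgebraicClosure (T.residueField (f x))
  let t : Spec (CommRingCat.of Ω) ⟶ T :=
    Spec.map (CommRingCat.ofHom (algebraMap (T.residueField (f x)) Ω)) ≫ T.fromSpecResidueField (f x)
  have ht : t (IsLocalRing.closedPoint Ω) = f x := by
    rw [Scheme.Hom.comp_apply]
    exact Set.mem_singleton_iff.1 (by
      rw [← Scheme.range_fromSpecResidueField]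
      exact ⟨_, rfl⟩)
  obtain ⟨x', hx', -⟩ := Scheme.Pullback.exists_preimage_pullback (f := f) (g := t) x
    (IsLocalRing.closedPoint Ω) ht.symm
  exact ⟨Ω, inferInstance, inferInstance, t, x', hx'⟩

/-- A vector bundle of rank `r` on the family `f`, locally of finite presentation, is finite locally free of rank `r` on the
total space. -/
theorem isFinLocFreeOfRank {C T : Scheme.{u}} (f : C ⟶ T) [LocallyOfFinitePresentation f] {E : C.Modules} {r : ℕ}
    (h : VecSt.IsVB f E r) : FlatMod.IsFinLocFreeOfRank r E := by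
  intro x
  obtain ⟨Ω, _, _, t, x', hx'⟩ := exists_geom f x
  subst hx'
  have h1 : FlatMod.IsFinLocFreeOfRank r ((Scheme.Modules.pullback (pullback.fst f t)).obj E) :=
    h.2.2 Ω t _ _ (pullback.snd f t) (IsPullback.of_hasPullback f t)
  have hq : Coh.IsQCoh ((Scheme.Modules.pullback (pullback.fst f t)).obj E) :=
    Groth.Agent.PerfC.FPSections.isQCoh_of_isFP (Groth.Agent.FormalA.PullbackQC.isFP_pullback _ E h.2.1)
  have h2 := (Groth.Agent.Divis.StalkMod.finite_free_stalk hq
    (fun y => (h1 y).imp fun V hV => ⟨r, hV⟩) x').2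
  have h3 := Groth.Agent.S9769.result f E h.2.1 h.1 t (pullback.snd f t) (pullback.fst f t)
    (IsPullback.of_hasPullback f t)
  have h4 : x' ∈ (pullback.fst f t) ⁻¹' {x : ↑C | Module.Free ↑(C.presheaf.stalk x) ↑(E.presheaf.stalk x)} := by
    rw [← h3]
    exact h2
  obtain ⟨U, m, hxU, e⟩ := K927.ModSt.exists_free_of_flatAt E h.2.1 (pullback.fst f t x')
    ((K259.FlatId.free_stalk_iff E h.2.1 _).1 h4)
  obtain ⟨V, hxV, e'⟩ := h1 x'
  have hmn := K116.RankLim.rank_unique (x := x') (U := (pullback.fst f t) ⁻¹ᵁ U) hxU hxV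
    (K116.RankLim.nonempty_iso_restrict_pullback (pullback.fst f t) e) e'
  subst hmn
  exact ⟨U, hxU, e⟩

end Groth.Agent.VecBal.K812.LocFree
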