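import Groth.Agent.VecBal.K812.Iface
import Groth.Agent.VecBal.K812.LocFree
import Groth.Agent.VecBal.K812.VAmple
import Groth.Agent.CurvSt.K900.OmegaGood
import Groth.Agent.CurvSt.K900.FibDual
import Groth.Agent.CurvSt.K900.RelAmp
import Groth.Agent.CurvSt.K901.DualGen
import Groth.Agent.Dual.H328.WUniv

/-!
# The canonical polarization `det E ⊗ ω^m` of a family of properly balanced bundles

`main : LfpStmt → PolStmt`
-/

set_option autoImplicit false
universe u

open CategoryTheory CategoryTheory.Limits AlgebraicGeometry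
attribute [local instance] HasDerivedCategory.standard

namespace Groth.Agent.VecBal.K812.Pol

open Groth.Agent Groth.Agent.VecBal.K812.Iface

/-- `L ≅ det E ⊗ ω_f^m`. -/
def PolRel (r m : ℕ) {C T : Scheme.{u}} (f : C ⟶ T) (E L : C.Modules) : Prop :=
  ∃ (w D : C.Modules) (_ : DCoh.HasRpush f), PicF.IsInvertible w ∧ K682.RelDual.IsRD f 1 w ∧
    ExtPow.IsExtPow r E D ∧ Nonempty (L ≅ CohB1.tensorMod D (CohB1.tensorPow w m))

/-- A family of semistable curves, locally of finite presentation, is a nodal family. -/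
theorem isNodalFamily {C T : Scheme.{u}} (f : C ⟶ T) [LocallyOfFinitePresentation f] {g : ℕ}
    (h : VecSt.IsSemistableFam f g) : Curv2.IsNodalFamily f := by
  refine K900.OmegaGood.isNodalFamily_of_prestable (n := 0) (g := g) (σ := Fin.elim0) (fun i => i.elim0) ?_
  refine ⟨h.1, h.2.1, inferInstance, fun Ω _ _ t X i q hP => ?_⟩
  obtain ⟨h1, h2, h3, h4, -⟩ := h.2.2 Ω t X i q hP
  exact ⟨h1, h2, h3, h4, fun i => i.elim0, fun i => i.elim0⟩

theorem exists_pol {r m g : ℕ} {C T : Scheme.{u}} [IsAffine T] (f : C ⟶ T) [LocallyOfFinitePresentation f]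
    {E : C.Modules} (h : VecSt.IsSemistableFam f g) (hE : VecSt.IsVB f E r) : ∃ L : C.Modules, PolRel r m f E L := by
  have h1 : Flat f := h.1
  have h2 : IsProper f := h.2.1
  have hr : DCoh.HasRpush f := Groth.Agent.Dcoh.DerSch.hasRpush f
  obtain ⟨w, hw, hw'⟩ := K901.DualGen.exists_isRD_isAffine f 1
    (fun x => K900.OmegaGood.gorDim f (isNodalFamily f h) x)
  obtain ⟨D, hD⟩ := Groth.Agent.Dual.H366.ExtQCoh.exists_isExtPow r
    (Groth.Agent.PerfC.FPSections.isQCoh_of_isFP hE.2.1)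
  exact ⟨_, w, D, hr, hw, hw', hD, ⟨Iso.refl _⟩⟩

theorem isInvertible_pol {r m g : ℕ} {C T : Scheme.{u}} (f : C ⟶ T) [LocallyOfFinitePresentation f]
    {E L : C.Modules} (_ : VecSt.IsSemistableFam f g) (hE : VecSt.IsVB f E r) (hL : PolRel r m f E L) :
    PicF.IsInvertible L := by
  obtain ⟨w, D, hr, hw, hw', hD, ⟨e⟩⟩ := hL
  refine PerfB.LimMod.isInvertible_of_iso e.symm ?_
  exact Fdesc.LocGen.isInvertible_tensorMod
    (Dual.H328.WUniv.isInvertible_extPow (LocFree.isFinLocFreeOfRank f hE) hD) (VAmple.isInvertible_tensorPow hw m)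

theorem isAmple_pol {r m g : ℕ} {d : ℤ} (hg : 2 ≤ g) (hr : 1 ≤ r) (hm : |d| + 2 * r ≤ m) {C T : Scheme.{u}}
    [IsAffine T] (f : C ⟶ T) [LocallyOfFinitePresentation f]
    {E L : C.Modules} (h : FamCond g r d f E) (hL : PolRel r m f E L) : CohB1.IsAmple L := by
  have h1 : Flat f := h.1.1
  have h2 : IsProper f := h.1.2.1
  have hinv := isInvertible_pol f h.1 h.2.1 hL
  rw [← S4381.result f L, K900.RelAmp.isRelAmple_iff_geom f hinv]
  intro Ω _ _ t X i q sq
  obtain ⟨w, D, hR, hw, hw', hD, ⟨e⟩⟩ := hL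
  let _ : X.Over (Spec (CommRingCat.of Ω)) := ⟨q⟩
  have hq : IsProper (X ↘ (Spec (CommRingCat.of Ω))) := MorphismProperty.of_isPullback sq inferInstance
  have hr' : DCoh.HasRpush (X ↘ (Spec (CommRingCat.of Ω))) := Groth.Agent.Dcoh.DerSch.hasRpush _
  have hr2 : DCoh.HasRpush q := hr'
  obtain ⟨k1, k2, k3, ⟨k4, k5⟩, k6⟩ := h.1.2.2 Ω t X i q sq
  have c1 : CompactSpace C := QuasiCompact.compactSpace_of_compactSpace f
  have c2 : QuasiSeparatedSpace C := quasiSeparatedSpace_of_quasiSeparated f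
  have c3 : CompactSpace X := QuasiCompact.compactSpace_of_compactSpace (X ↘ (Spec (CommRingCat.of Ω)))
  have c4 : QuasiSeparatedSpace X := quasiSeparatedSpace_of_quasiSeparated (X ↘ (Spec (CommRingCat.of Ω)))
  have hbc : K682.RelDual.IsRD (X ↘ (Spec (CommRingCat.of Ω))) 1 ((Scheme.Modules.pullback i).obj w) :=
    K682.RelDual.IsRD.baseChange sq hw hw'
  obtain ⟨tr, htr⟩ := K900.FibDual.exists_pair Ω k3 hbc
  have hq' : Coh.IsQCoh E := Groth.Agent.PerfC.FPSections.isQCoh_of_isFP h.2.1.2.1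
  have hw2 : PicF.IsInvertible ((Scheme.Modules.pullback i).obj w) := VAmple.isInvertible_pull i hw
  have hD2 : PicF.IsInvertible ((Scheme.Modules.pullback i).obj D) := VAmple.isInvertible_pull i
    (Dual.H328.WUniv.isInvertible_extPow (LocFree.isFinLocFreeOfRank f h.2.1) hD)
  have hE2 : FlatMod.IsFinLocFreeOfRank r ((Scheme.Modules.pullback i).obj E) := h.2.1.2.2 Ω t X i q sq
  have hB : VecBal.ProperlyBalanced Ω X (X ↘ (Spec (CommRingCat.of Ω))) ((Scheme.Modules.pullback i).obj E) r d g :=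
    h.2.2.2 Ω t X i q sq
  have key := VAmple.isAmple_det_twist Ω X k3 k4 g k5 hg k6 r hr d _ hE2 hB hw2 htr _
    (K583.ExtPowPull.isExtPow_pullback i hq' hD) hD2 m hm
  obtain ⟨φ⟩ := K425.Chart.nonempty_pull_twist i hw (Iso.refl _) (Iso.refl _) m (F := D)
  exact Groth.Agent.Models2.AmplePull.isAmple_of_iso (((Scheme.Modules.pullback i).mapIso e ≪≫ φ).symm) key

theorem baseChange_pol {r m g : ℕ} {C C' T T' : Scheme.{u}} [IsAffine T] [IsAffine T'] (f : C ⟶ T)
    [LocallyOfFinitePresentation f] (f' : C' ⟶ T') (top : C' ⟶ C) (b : T' ⟶ T) {E L : C.Modules} {E' L' : C'.Modules}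
    (sq : IsPullback top f' f b) (eE : (Scheme.Modules.pullback top).obj E ≅ E') (h : VecSt.IsSemistableFam f g)
    (hE : Coh.IsQCoh E) (hL : PolRel r m f E L) (hL' : PolRel r m f' E' L') :
    Nonempty ((Scheme.Modules.pullback top).obj L ≅ L') := by
  have h1 : Flat f := h.1
  have h2 : IsProper f := h.2.1
  have h3 : IsProper f' := MorphismProperty.of_isPullback sq inferInstance
  obtain ⟨w, D, hR, hw, hw', hD, ⟨e⟩⟩ := hL
  obtain ⟨w₁, D₁, hR₁, hw₁, hw₁', hD₁, ⟨e₁⟩⟩ := hL'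
  have c1 : CompactSpace C := QuasiCompact.compactSpace_of_compactSpace f
  have c2 : QuasiSeparatedSpace C := quasiSeparatedSpace_of_quasiSeparated f
  have c3 : CompactSpace C' := QuasiCompact.compactSpace_of_compactSpace f'
  have c4 : QuasiSeparatedSpace C' := quasiSeparatedSpace_of_quasiSeparated f'
  obtain ⟨ew⟩ := K682.RelDual.IsRD.unique (K682.RelDual.IsRD.baseChange sq hw hw') hw₁'
  obtain ⟨eD⟩ := Groth.Agent.Sga67.TensorOps.nonempty_iso_of_isExtPow eE
    (K583.ExtPowPull.isExtPow_pullback top hE hD) hD₁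
  obtain ⟨φ⟩ := K425.Chart.nonempty_pull_twist top hw eD ew m
  exact ⟨(Scheme.Modules.pullback top).mapIso e ≪≫ φ ≪≫ e₁.symm⟩

/-- **The canonical polarization.** -/
theorem main (hlfp : LfpStmt.{u}) : PolStmt.{u} := by
  intro g r d hg hr
  refine ⟨fun f E L => PolRel r (d.natAbs + 2 * r) f E L, ?_, ?_, ?_⟩
  · intro C T f E hT h
    have h0 := hlfp C T f g hg h.1
    exact exists_pol f h.1 h.2.1
  · intro C T f E L hT h hL
    have h0 := hlfp C T f g hg h.1
    refine isAmple_pol hg hr (d := d) ?_ f h hL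
    push_cast
    exact le_rfl
  · intro C C' T T' f f' top b E L E' L' hT hT' sq ⟨eE⟩ h hL hL'
    have h0 := hlfp C T f g hg h.1
    exact baseChange_pol f f' top b sq eE h.1 (Groth.Agent.PerfC.FPSections.isQCoh_of_isFP h.2.1.2.1) hL hL'

end Groth.Agent.VecBal.K812.Pol
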