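import Groth.Agent.VecBal.K812.LFib

/-!
# Families of semistable curves are locally of finite presentation: assembly

`main : ModelStmt → SubcurveStmt → OpenStmt → LfpStmt`
-/

set_option autoImplicit false
universe u

open CategoryTheory CategoryTheory.Limits AlgebraicGeometry TopologicalSpace Opposite

namespace Groth.Agent.VecBal.K812.LfpAsm

open Groth.Agent Groth.Agent.VecBal.K812.Iface

/-- A closed immersion with bijective maps on stalks at all points over the image of `b` becomes an isomorphism after base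
change along `b`. -/
theorem isIso_of_bijective {C C₀ X Y : Scheme.{u}} (i : C ⟶ C₀) [IsClosedImmersion i] {a : X ⟶ C} {l : X ⟶ Y}
    {b : Y ⟶ C₀} [QuasiCompact b] (sq : IsPullback a l i b)
    (h : ∀ y : Y, ∃ x : C, i x = b y ∧ Function.Bijective (i.stalkMap x)) : IsIso l := by
  have hl : IsClosedImmersion l := MorphismProperty.of_isPullback sq inferInstance
  rw [IsClosedImmersion.isIso_iff_ker_eq_bot, ← LFib.comap_ker i b l a sq, eq_bot_iff,
    ← Scheme.IdealSheafData.le_map_iff_comap_le]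
  intro U x hx
  have hx' : (i.app U.1).hom x = 0 := by
    rw [Scheme.Hom.ker_apply] at hx
    exact hx
  have h1 : (Scheme.IdealSheafData.map ⊥ b).ideal U = RingHom.ker (b.app U.1).hom := by
    rw [Scheme.IdealSheafData.map_bot, Scheme.Hom.ker_apply]
  rw [h1, RingHom.mem_ker]
  have h0 : ∀ (y : Y) (hy : y ∈ b ⁻¹ᵁ U.1), Y.presheaf.germ (b ⁻¹ᵁ U.1) y hy ((b.app U.1).hom x) =
      Y.presheaf.germ (b ⁻¹ᵁ U.1) y hy 0 := by
    intro y hy
    rw [map_zero]
    obtain ⟨z, hz, hzb⟩ := h y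
    have h2' : ∀ (w : C₀) (hw : w ∈ U.1), i z = w → C₀.presheaf.germ U.1 w hw x = 0 := by
      rintro w hw rfl
      apply hzb.1
      have h4 := Scheme.Hom.germ_stalkMap_apply i U.1 z hw x
      exact h4.trans (((congrArg _ hx').trans (map_zero _)).trans (map_zero (i.stalkMap z).hom).symm)
    have h2 : C₀.presheaf.germ U.1 (b y) hy x = 0 := h2' (b y) hy hz
    have h5 := Scheme.Hom.germ_stalkMap_apply b U.1 y hy x
    rw [h2, map_zero] at h5
    exact h5.symm
  exact TopCat.Presheaf.section_ext Y.sheaf (b ⁻¹ᵁ U.1) _ 0 h0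

/-- Local finite presentation is local on the base. -/
theorem lfp_of_cover {C T : Scheme.{u}} (f : C ⟶ T)
    (h : ∀ s : T, ∃ (T' : Scheme.{u}) (j : T' ⟶ T) (C' : Scheme.{u}) (k : C' ⟶ C) (f' : C' ⟶ T'),
      IsOpenImmersion j ∧ s ∈ Set.range j ∧ IsPullback k f' f j ∧ LocallyOfFinitePresentation f') :
    LocallyOfFinitePresentation f := by
  choose T' j C' k f' hj hs sq hlfp using h
  have htop : iSup (fun s : T => (j s).opensRange) = ⊤ := by
    rw [eq_top_iff]
    intro s _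
    exact Opens.mem_iSup.2 ⟨s, hs s⟩
  refine (IsZariskiLocalAtTarget.iff_of_iSup_eq_top (P := @LocallyOfFinitePresentation) _ htop).2 fun s => ?_
  let V := (j s).opensRange
  let e : (V : Scheme.{u}) ⟶ T' s := IsOpenImmersion.lift (j s) V.ι (by simp [V])
  have he : e ≫ j s = V.ι := IsOpenImmersion.lift_fac _ _ _
  have sq' : IsPullback (f ⁻¹ᵁ V).ι (f ∣_ V) f V.ι := (isPullback_morphismRestrict f V).flip
  have hw : (f ⁻¹ᵁ V).ι ≫ f = ((f ∣_ V) ≫ e) ≫ j s := by rw [Category.assoc, he, sq'.w]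
  have sq'' : IsPullback ((sq s).lift (f ⁻¹ᵁ V).ι ((f ∣_ V) ≫ e) hw) (f ∣_ V) (f' s) e := by
    refine IsPullback.of_right ?_ ((sq s).lift_snd _ _ _) (sq s)
    rw [(sq s).lift_fst, he]
    exact sq'
  exact MorphismProperty.of_isPullback sq'' (hlfp s)

/-- The local statement. -/
theorem exists_local (hM : ModelStmt.{u}) (hS : SubcurveStmt.{u}) (hO : OpenStmt.{u}) {C T : Scheme.{u}} (f : C ⟶ T)
    (g : ℕ) (hg : 2 ≤ g) (h : VecSt.IsSemistableFam f g) [IsAffine T] (s : T) :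
    ∃ (T' : Scheme.{u}) (j : T' ⟶ T) (C' : Scheme.{u}) (k : C' ⟶ C) (f' : C' ⟶ T'),
      IsOpenImmersion j ∧ s ∈ Set.range j ∧ IsPullback k f' f j ∧ LocallyOfFinitePresentation f' := by
  obtain ⟨T₁, j₁, s', C₁, C₀, k₁, f₁, i, f₀, hj₁, hs', hT₁, sq₁, hi, hif, hp₀, hf₀, hl₀, hb⟩ :=
    hM C T f h.1 h.2.1 inferInstance s
  subst hif
  -- a geometric point over `s'`
  let Ω : Type u := AlgebraicClosure (T₁.residueField s')
  let t : Spec (CommRingCat.of Ω) ⟶ T₁ :=
    Spec.map (CommRingCat.ofHom (algebraMap (T₁.residueField s') Ω)) ≫ T₁.fromSpecResidueField s'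
  have ht : ∀ z, t z = s' := by
    intro z
    rw [Scheme.Hom.comp_apply]
    exact Scheme.fromSpecResidueField_apply _ _
  have sqY : IsPullback (pullback.fst f₀ t) (pullback.snd f₀ t) f₀ t := IsPullback.of_hasPullback _ _
  have sqX : IsPullback (pullback.fst i (pullback.fst f₀ t)) (pullback.snd i (pullback.fst f₀ t)) i
    (pullback.fst f₀ t) := IsPullback.of_hasPullback _ _
  have hl : IsIso (pullback.snd i (pullback.fst f₀ t)) := by
    refine isIso_of_bijective i sqX fun y => hb _ ?_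
    rw [← Scheme.Hom.comp_apply, sqY.w, Scheme.Hom.comp_apply]
    exact ht _
  have sqXT := sqX.paste_vert sqY
  have hXs : VecSt.IsSemistablePtd Ω _ (pullback.snd i (pullback.fst f₀ t) ≫ pullback.snd f₀ t) g :=
    h.2.2 Ω (t ≫ j₁) _ (pullback.fst i (pullback.fst f₀ t) ≫ k₁) _ (sqXT.paste_horiz sq₁)
  have sqX' : IsPullback (pullback.snd i (pullback.fst f₀ t) ≫ pullback.fst f₀ t)
      (pullback.snd i (pullback.fst f₀ t) ≫ pullback.snd f₀ t) f₀ t := by
    have h1 : IsPullback (pullback.snd i (pullback.fst f₀ t))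
        (pullback.snd i (pullback.fst f₀ t) ≫ pullback.snd f₀ t) (pullback.snd f₀ t)
        (𝟙 (Spec (CommRingCat.of Ω))) := IsPullback.of_horiz_isIso ⟨by simp⟩
    have h2 := h1.paste_horiz sqY
    rwa [Category.id_comp] at h2
  obtain ⟨U, hU, hUs⟩ := hO C₀ T₁ f₀ hf₀ hp₀ hl₀ g hg Ω t _ _ _ sqX' hXs
  rw [ht] at hU
  -- over `U`
  let W : C₀.Opens := f₀ ⁻¹ᵁ U
  have sqU : IsPullback (i ⁻¹ᵁ W).ι (i ∣_ W) i W.ι := (isPullback_morphismRestrict i W).flip
  have sqU₀ : IsPullback W.ι (f₀ ∣_ U) f₀ U.ι := (isPullback_morphismRestrict f₀ U).flip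
  have sqU' := sqU.paste_vert sqU₀
  have hiU : IsClosedImmersion (i ∣_ W) := MorphismProperty.of_isPullback sqU inferInstance
  have hf₀U : Flat (f₀ ∣_ U) := MorphismProperty.of_isPullback sqU₀ inferInstance
  have hl₀U : LocallyOfFinitePresentation (f₀ ∣_ U) := MorphismProperty.of_isPullback sqU₀ inferInstance
  have hff : Flat (i ≫ f₀) := MorphismProperty.of_isPullback sq₁ h.1
  have hfU : Flat ((i ∣_ W) ≫ (f₀ ∣_ U)) := MorphismProperty.of_isPullback sqU' hff
  have key : IsIso (i ∣_ W) := by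
    refine LFib.isoFib _ _ _ ((i ∣_ W) ≫ (f₀ ∣_ U)) (f₀ ∣_ U) (i ∣_ W) rfl hfU hf₀U hl₀U hiU ?_
    intro Ω' _ _ t' X Y a q b q₀ l h1 h2 h3 h4
    have h5 : IsPullback a l (i ∣_ W) b := by
      subst h4
      exact IsPullback.of_bot h1 h3.symm h2
    have h6 : IsClosedImmersion l := MorphismProperty.of_isPullback h5 inferInstance
    refine hS Ω' X Y q q₀ l g h4 h6 hg ?_ (hUs.2.2 Ω' t' Y b q₀ h2)
    exact h.2.2 Ω' _ X _ q ((h1.paste_horiz sqU').paste_horiz sq₁)
  refine ⟨U, U.ι ≫ j₁, _, (i ⁻¹ᵁ W).ι ≫ k₁, (i ∣_ W) ≫ (f₀ ∣_ U), inferInstance, ?_, sqU'.paste_horiz sq₁,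
    inferInstance⟩
  exact ⟨⟨s', hU⟩, by rw [Scheme.Hom.comp_apply]; exact hs'⟩

/-- **Families of semistable curves of genus `g ≥ 2` are locally of finite presentation.** -/
theorem main (hM : ModelStmt.{u}) (hS : SubcurveStmt.{u}) (hO : OpenStmt.{u}) : LfpStmt.{u} := by
  intro C T f g hg h
  refine lfp_of_cover f fun s => ?_
  obtain ⟨V, hV, hsV, -⟩ := exists_isAffineOpen_mem_and_subset (x := s) (U := (⊤ : T.Opens)) trivial
  have hVa : IsAffine (V : Scheme.{u}) := hV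
  have sq : IsPullback (f ⁻¹ᵁ V).ι (f ∣_ V) f V.ι := (isPullback_morphismRestrict f V).flip
  have h1 : Flat f := h.1
  have h2 : IsProper f := h.2.1
  have hV' : VecSt.IsSemistableFam (f ∣_ V) g := by
    refine ⟨MorphismProperty.of_isPullback sq inferInstance, MorphismProperty.of_isPullback sq inferInstance, ?_⟩
    intro Ω _ _ t X i q hP
    exact h.2.2 Ω (t ≫ V.ι) X _ q (hP.paste_horiz sq)
  obtain ⟨T', j, C', k, f', hj, hs, sq', hlfp⟩ := exists_local hM hS hO (f ∣_ V) g hg hV' ⟨s, hsV⟩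
  refine ⟨T', j ≫ V.ι, C', k ≫ (f ⁻¹ᵁ V).ι, f', inferInstance, ?_, sq'.paste_horiz sq, hlfp⟩
  obtain ⟨z, hz⟩ := hs
  exact ⟨z, by rw [Scheme.Hom.comp_apply, hz]; rfl⟩

end Groth.Agent.VecBal.K812.LfpAsm
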