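import Groth.Agent.VecBal.K812.Pol
import Groth.Agent.VecBal.K812.LfpAsm
import Groth.Agent.VecBal.K678.Eff
import Groth.Agent.VecBal.K787.FamStack
import Groth.Agent.VecBal.K996.IfaceDesc
import Groth.Agent.VecBal.K247.NonemptyObj

/-!
# The stack of properly balanced bundles: assembly

* `stack : PolAffStmt → LfpStmt → IsStack (Vecrdg S g r d)`
-/

set_option autoImplicit false
universe u

open CategoryTheory CategoryTheory.Limits AlgebraicGeometry

namespace Groth.Agent.VecBal.K812.Asm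

open Groth.Agent Groth.Agent.VecBal.K812.Iface

/-- `Vecrdg` is an fpqc stack if descent data of its objects are effective. -/
theorem stack_of_eff (hE : EffStmt.{u}) (S : Scheme.{u}) (g r : ℕ) (d : ℤ) (hg : 2 ≤ g) (hr : 1 ≤ r) :
    Stk.IsStack (QuotSh.J Scheme.fpqcPrecoverage S) (VecBal.Vecrdg S g r d) :=
  K787.FamStack.main S (fun A => FamCond g r d A.f A.E)
    (fun _ _ φ h => K996.FamDesc.inVec_of_hom φ h)
    (fun _ h => Groth.Agent.PerfC.FPSections.isQCoh_of_isFP h.2.1.2.1)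
    (fun _ hq _ A φ hc h => K996.FamDesc.inVec_of_cover hq A φ hc h)
    (hE S g r d hg hr)

theorem stack (hJ1 : PolAffStmt.{u}) (hJ2 : LfpStmt.{u}) (S : Scheme.{u}) (g r : ℕ) (d : ℤ) (hg : 2 ≤ g) (hr : 1 ≤ r) :
    Stk.IsStack (QuotSh.J Scheme.fpqcPrecoverage S) (VecBal.Vecrdg S g r d) :=
  stack_of_eff (Groth.Agent.VecBal.K678.Eff.main hJ1 (Pol.main hJ2) hJ2) S g r d hg hr

end Groth.Agent.VecBal.K812.Asm
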