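import Groth.Agent.S1208
import Groth.Agent.Flat2C.FlatAtCriterion
import Mathlib.RingTheory.Flat.EquationalCriterion
import Mathlib.RingTheory.Nakayama
import Mathlib.RingTheory.LocalRing.ResidueField.Ideal

/-!
# Flat quotients of finitely presented algebras with the same fibre

`ker_eq_bot`: `B` a local `R`-algebra, `π : B → L` a surjection onto an `R`-flat module with finitely generated kernel,
contained in `p B`, `p` an ideal of `R` with `p B ⊆ 𝔪`; then `π` is injective.

`exists_mul_eq_zero`: `S` a finitely presented `R`-algebra, `K` an ideal with `S ⧸ K` flat over `R`, `q` a prime of `S`; if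
`K` dies in `S ⊗ Ω` for a homomorphism from `R` to a field `Ω` with kernel `q ∩ R` then `K_q = 0`.
-/

set_option autoImplicit false
universe u

open TensorProduct

namespace Groth.Agent.VecBal.K812.FlatKer

theorem ker_eq_bot {R B L : Type*} [CommRing R] [CommRing B] [IsLocalRing B] [Algebra R B] [AddCommGroup L]
    [Module B L] [Module R L] [IsScalarTower R B L] [Module.Flat R L] (p : Ideal R)
    (hp : p.map (algebraMap R B) ≤ IsLocalRing.maximalIdeal B) (π : B →ₗ[B] L) (hπ : Function.Surjective π)
    (hfg : (LinearMap.ker π).FG) (hK : LinearMap.ker π ≤ p.map (algebraMap R B)) : LinearMap.ker π = ⊥ := by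
  have key : LinearMap.ker π ≤ (p.map (algebraMap R B)) • LinearMap.ker π := by
    intro x hx
    have hx' : x ∈ Ideal.span (algebraMap R B '' p) := hK hx
    obtain ⟨n, f, g, hfg'⟩ := Submodule.mem_span_set'.1 hx'
    choose r hr hr' using fun i => (g i).2
    have hx2 : x = ∑ i, r i • f i := by
      rw [← hfg']
      refine Finset.sum_congr rfl fun i _ => ?_
      rw [← hr' i, Algebra.smul_def (r i), smul_eq_mul, mul_comm]
    have h0 : ∑ i, r i • π (f i) = 0 := by
      have h1 : π x = 0 := hx
      rw [hx2, map_sum] at h1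
      rw [← h1]
      refine Finset.sum_congr rfl fun i _ => ?_
      exact ((π.restrictScalars R).map_smul (r i) (f i)).symm
    obtain ⟨m, a, y, h1, h2⟩ := Module.Flat.isTrivialRelation_of_sum_smul_eq_zero h0
    choose z hz using fun j => hπ (y j)
    let k : Fin n → B := fun i => f i - ∑ j, a i j • z j
    have hk : ∀ i, k i ∈ LinearMap.ker π := by
      intro i
      rw [LinearMap.mem_ker]
      have : π (∑ j, a i j • z j) = ∑ j, a i j • y j := by
        rw [map_sum]
        refine Finset.sum_congr rfl fun j _ => ?_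
        rw [← hz j]
        exact (π.restrictScalars R).map_smul (a i j) (z j)
      have h1i : π (f i) = ∑ j, a i j • y j := h1 i
      rw [map_sub, this, h1i, sub_self]
    have hx3 : x = ∑ i, algebraMap R B (r i) • k i := by
      rw [hx2]
      have h3 : ∑ i, algebraMap R B (r i) • k i = ∑ i, r i • f i - ∑ i, r i • ∑ j, a i j • z j := by
        rw [← Finset.sum_sub_distrib]
        refine Finset.sum_congr rfl fun i _ => ?_
        rw [algebraMap_smul, smul_sub]
      have h4 : ∑ i, r i • ∑ j, a i j • z j = 0 := by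
        calc ∑ i, r i • ∑ j, a i j • z j = ∑ i, ∑ j, (r i * a i j) • z j := by
              refine Finset.sum_congr rfl fun i _ => ?_
              rw [Finset.smul_sum]
              refine Finset.sum_congr rfl fun j _ => ?_
              rw [smul_smul]
          _ = ∑ j, (∑ i, r i * a i j) • z j := by
              rw [Finset.sum_comm]
              refine Finset.sum_congr rfl fun j _ => ?_
              rw [Finset.sum_smul]
          _ = 0 := by
              refine Finset.sum_eq_zero fun j _ => ?_
              rw [h2 j, zero_smul]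
      rw [h3, h4, sub_zero]
    rw [hx3]
    exact Submodule.sum_mem _ fun i _ => Submodule.smul_mem_smul (Ideal.mem_map_of_mem _ (hr i)) (hk i)
  refine Submodule.eq_bot_of_le_smul_of_le_jacobson_bot _ _ hfg key ?_
  rwa [IsLocalRing.jacobson_eq_maximalIdeal _ bot_ne_top]

section Alg

variable {R S : Type u} [CommRing R] [CommRing S] [Algebra R S]

/-- Let `R → M` be a ring homomorphism killing the kernel `p` of `R → Ω`, `Ω` a field, and inverting the complement of `p`.
Then the kernel of `S → S ⊗ Ω` is contained in that of any `R`-algebra map `S → M`. -/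
theorem eq_zero_of_tmul_eq_zero {M : Type u} [CommRing M] [Algebra R M] (φ : S →ₐ[R] M) (Ω : Type u) [Field Ω]
    [Algebra R Ω] (h1 : RingHom.ker (algebraMap R Ω) ≤ RingHom.ker (algebraMap R M))
    (h2 : ∀ y : R, algebraMap R Ω y ≠ 0 → IsUnit (algebraMap R M y)) (x : S)
    (hx : x ⊗ₜ[R] (1 : Ω) = 0) : φ x = 0 := by
  let p := RingHom.ker (algebraMap R Ω)
  have hpp : p.IsPrime := RingHom.ker_isPrime _
  let κ := p.ResidueField
  have hu : p.primeCompl ≤ (IsUnit.submonoid Ω).comap (algebraMap R Ω) := fun y hy => by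
    change IsUnit _
    rw [isUnit_iff_ne_zero]
    exact hy
  let a : κ →ₐ[R] Ω := Ideal.ResidueField.liftₐ (R := R) p (Algebra.ofId R Ω) le_rfl hu
  let b : κ →ₐ[R] M := Ideal.ResidueField.liftₐ (R := R) p (Algebra.ofId R M) h1 (fun y hy => h2 y hy)
  let _ : Algebra κ Ω := a.toRingHom.toAlgebra
  have hs : IsScalarTower R κ Ω := IsScalarTower.of_algebraMap_eq fun r => (a.commutes r).symm
  obtain ⟨l, hl⟩ := (Algebra.linearMap κ Ω).exists_leftInverse_of_injective
    (LinearMap.ker_eq_bot.2 (algebraMap κ Ω).injective)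
  have hl1 : l 1 = 1 := by
    have := LinearMap.congr_fun hl 1
    simpa using this
  let Φ : S →ₗ[R] Ω →ₗ[R] M := LinearMap.mk₂ R (fun s ω => b (l ω) * φ s)
    (fun s s' ω => by rw [map_add, mul_add]) (fun r s ω => by rw [map_smul, mul_smul_comm])
    (fun s ω ω' => by rw [map_add, map_add, add_mul])
    (fun r s ω => by
      have h3 : l (r • ω) = r • l ω := (l.restrictScalars R).map_smul r ω
      rw [h3, map_smul, smul_mul_assoc])
  have h4 : TensorProduct.lift Φ (x ⊗ₜ[R] (1 : Ω)) = φ x := by
    rw [TensorProduct.lift.tmul]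
    change b (l 1) * φ x = φ x
    rw [hl1, map_one, one_mul]
  rw [← h4, hx, map_zero]

/-- An element of `S` which dies in `S ⊗ Ω` lies in `p S_q`, `p = ker (R → Ω) = q ∩ R`. -/
theorem mem_map_of_tmul_eq_zero (q : Ideal S) [q.IsPrime] (Ω : Type u) [Field Ω] [Algebra R Ω]
    (hp : RingHom.ker (algebraMap R Ω) = q.comap (algebraMap R S)) (x : S)
    (hx : x ⊗ₜ[R] (1 : Ω) = 0) :
    algebraMap S (Localization.AtPrime q) x ∈
      (q.comap (algebraMap R S)).map (algebraMap R (Localization.AtPrime q)) := by
  rw [← Ideal.Quotient.eq_zero_iff_mem]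
  refine eq_zero_of_tmul_eq_zero (M := Localization.AtPrime q ⧸
    (q.comap (algebraMap R S)).map (algebraMap R (Localization.AtPrime q)))
    ((Ideal.Quotient.mkₐ R _).comp (IsScalarTower.toAlgHom R S (Localization.AtPrime q))) Ω ?_ ?_ x hx
  · intro y hy
    rw [hp] at hy
    rw [RingHom.mem_ker, ← Ideal.Quotient.mk_algebraMap, Ideal.Quotient.eq_zero_iff_mem]
    exact Ideal.mem_map_of_mem _ hy
  · intro y hy
    rw [← Ideal.Quotient.mk_algebraMap]
    refine IsUnit.map _ ?_
    rw [IsScalarTower.algebraMap_apply R S]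
    refine IsLocalization.map_units (Localization.AtPrime q) (⟨algebraMap R S y, fun h => hy ?_⟩ : q.primeCompl)
    have : y ∈ q.comap (algebraMap R S) := h
    rw [← hp] at this
    exact this

/-- The theorem. -/
theorem exists_mul_eq_zero [Algebra.FinitePresentation R S] (K : Ideal S) [Module.Flat R (S ⧸ K)] (q : Ideal S)
    [q.IsPrime] (Ω : Type u) [Field Ω] [Algebra R Ω]
    (hp : RingHom.ker (algebraMap R Ω) = q.comap (algebraMap R S))
    (hK : ∀ x ∈ K, x ⊗ₜ[R] (1 : Ω) = 0) (x : S) (hx : x ∈ K) : ∃ s, s ∉ q ∧ s * x = 0 := by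
  let B := Localization.AtPrime q
  let L := LocalizedModule q.primeCompl (S ⧸ K)
  have hflat : FlatCA.FlatAt R q (S ⧸ K) := by
    rw [Groth.Agent.Flat2C.FlatAtCriterion.flatAt_iff]
    intro I y hy
    refine ⟨1, fun h => (inferInstance : q.IsPrime).ne_top ((Ideal.eq_top_iff_one q).mpr h), ?_⟩
    have : y = 0 := by
      apply Module.Flat.lTensor_preserves_injective_linearMap (M := S ⧸ K) I.subtype I.subtype_injective
      rw [hy, map_zero]
    rw [this, smul_zero]
  have hfp : Module.FinitePresentation B L := Groth.Agent.S1208.result (R := R) (S ⧸ K) q hflat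
  have hfl : Module.Flat R L := hflat
  let π : B →ₗ[B] L := LinearMap.toSpanSingleton B L (LocalizedModule.mk (1 : S ⧸ K) (1 : q.primeCompl))
  have hπ1 : ∀ (a : S) (t : q.primeCompl), π (IsLocalization.mk' B a t) = LocalizedModule.mk (a • (1 : S ⧸ K)) t := by
    intro a t
    rw [← Localization.mk_eq_mk']
    change Localization.mk a t • (LocalizedModule.mk (1 : S ⧸ K) (1 : q.primeCompl)) = _
    exact (LocalizedModule.mk_smul_mk a (1 : S ⧸ K) t (1 : q.primeCompl)).trans (by rw [mul_one])
  have hπ : Function.Surjective π := by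
    intro l
    induction l using LocalizedModule.induction_on with
    | _ m t =>
      obtain ⟨a, rfl⟩ := Ideal.Quotient.mk_surjective m
      refine ⟨IsLocalization.mk' B a t, ?_⟩
      rw [hπ1]
      congr 1
      rw [Algebra.smul_def, mul_one]
      rfl
  have hker : LinearMap.ker π ≤ (q.comap (algebraMap R S)).map (algebraMap R B) := by
    intro b hb
    obtain ⟨a, t, rfl⟩ := IsLocalization.exists_mk'_eq q.primeCompl b
    rw [LinearMap.mem_ker, hπ1] at hb
    have h1 : ∃ v : q.primeCompl, v • (a • (1 : S ⧸ K)) = 0 := by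
      have := (IsLocalizedModule.mk'_eq_zero' (f := LocalizedModule.mkLinearMap q.primeCompl (S ⧸ K))
          (m := a • (1 : S ⧸ K)) t).mp (by rw [← IsLocalizedModule.mk_eq_mk']; exact hb)
      exact this
    obtain ⟨v, hv⟩ := h1
    have h2 : (v : S) * a ∈ K := by
      rw [← Ideal.Quotient.eq_zero_iff_mem, map_mul]
      rw [Submonoid.smul_def, smul_smul, Algebra.smul_def, mul_one] at hv
      simpa using hv
    have h3 := mem_map_of_tmul_eq_zero q Ω hp _ (hK _ h2)
    have h4 : IsLocalization.mk' B a t = IsLocalization.mk' B 1 (v * t) * algebraMap S B ((v : S) * a) := by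
      rw [← IsLocalization.mk'_one (M := q.primeCompl) B ((v : S) * a), ← IsLocalization.mk'_mul,
        one_mul, mul_one, IsLocalization.mk'_eq_iff_eq]
      congr 1
      push_cast
      ring
    rw [h4]
    exact Ideal.mul_mem_left _ _ h3
  have hbot := ker_eq_bot (R := R) (q.comap (algebraMap R S)) ?_ π hπ
    (Module.FinitePresentation.fg_ker π hπ) hker
  · have h5 : algebraMap S B x ∈ LinearMap.ker π := by
      rw [LinearMap.mem_ker, ← IsLocalization.mk'_one (M := q.primeCompl) B x, hπ1]
      have : x • (1 : S ⧸ K) = 0 := by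
        rw [Algebra.smul_def, mul_one]
        exact Ideal.Quotient.eq_zero_iff_mem.2 hx
      rw [this, LocalizedModule.zero_mk]
    rw [hbot, Submodule.mem_bot, IsLocalization.map_eq_zero_iff q.primeCompl] at h5
    obtain ⟨s, hs⟩ := h5
    exact ⟨s, s.2, hs⟩
  · rw [Ideal.map_le_iff_le_comap]
    intro y hy
    rw [Ideal.mem_comap, IsScalarTower.algebraMap_apply R S]
    exact (IsLocalization.AtPrime.to_map_mem_maximal_iff B q _).2 hy

end Alg

end Groth.Agent.VecBal.K812.FlatKer
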