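import Groth.Agent.VarietyA.HHDelta
import Groth.Agent.VarietyA.EulerAdd
import Groth.Agent.Ega2.TwistInv
import Groth.Agent.S0843
import Groth.Agent.S0844
import Mathlib.Algebra.Category.ModuleCat.Biproducts
import Groth.Prelude.Def_VecBal

/-!
# The Euler characteristic of a split bundle on the projective line
-/

set_option autoImplicit false
universe u

open CategoryTheory CategoryTheory.Limits AlgebraicGeometry Opposite TopologicalSpace

namespace Groth.Agent.VecBal.K812.LineDeg

open Groth.Agent Groth.Agent.VarietyA.EulerLES Groth.Agent.VarietyA.HHDelta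

variable (k : Type u) [Field k]

theorem finrank_homogeneous_two (d : ℕ) :
    Module.finrank k ↥(MvPolynomial.homogeneousSubmodule (Fin 2) k d) = d + 1 := by
  rw [MvPolynomial.homogeneousSubmodule_eq_finsupp_supported]
  have e := AddMonoidAlgebra.supportedEquivFinsupp (S := k) (R := k) {x : Fin 2 →₀ ℕ | x.degree = d}
  rw [LinearEquiv.finrank_eq e]
  let e2 : Fin (d + 1) ≃ {x : Fin 2 →₀ ℕ | x.degree = d} :=
    { toFun := fun i => ⟨Finsupp.equivFunOnFinite.symm ![i, d - i], by
        simp [Finsupp.degree_eq_sum, Fin.sum_univ_two]; omega⟩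
      invFun := fun x => ⟨x.1 0, by
        have := x.2
        simp [Finsupp.degree_eq_sum, Fin.sum_univ_two] at this
        omega⟩
      left_inv := fun i => by ext; simp
      right_inv := fun x => by
        have := x.2
        simp [Finsupp.degree_eq_sum, Fin.sum_univ_two] at this
        ext j
        fin_cases j
        · simp
        · simp; omega }
  rw [← LinearEquiv.finrank_eq (Finsupp.domLCongr e2)]
  simp

section Biprod

variable {X : Scheme.{u}} [X.Over (Spec (CommRingCat.of k))]

/-- The cohomology of a finite direct sum. -/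
noncomputable def biprodEquiv {ι : Type} [Finite ι] (M : ι → X.Modules) (i : ℕ) :
    Coh.HH X (⨁ M) i ≃ₗ[k] (∀ j, Coh.HH X (M j) i) := by
  haveI := HHfun_additive k X i
  exact ((HHfun k X i).mapBiproduct M ≪≫
    ModuleCat.biproductIsoPi (fun j => (HHfun k X i).obj (M j))).toLinearEquiv

end Biprod

theorem finrank_twist_zero (d : ℤ) (hd : 0 ≤ d) :
    (Module.finrank k (Coh.HH (CohB1.ProjSpace 1 k) (Twist.twistProjSpace 1 k d) 0) : ℤ) = d + 1 := by
  obtain ⟨n, rfl⟩ := Int.eq_ofNat_of_zero_le hd
  obtain ⟨e⟩ := Groth.Agent.S0843.result k 1 n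
  rw [e.finrank_eq, finrank_homogeneous_two]
  push_cast
  rfl

theorem subsingleton_twist (d : ℤ) (hd : 0 ≤ d) (q : ℕ) (hq : 0 < q) :
    Subsingleton (Coh.HH (CohB1.ProjSpace 1 k) (Twist.twistProjSpace 1 k d) q) :=
  Groth.Agent.S0844.result k 1 d q (by omega) (by omega)

/-- The Euler characteristic of a split bundle with non-negative degrees. -/
theorem euler_split {r : ℕ} (a : Fin r → ℤ) (ha : ∀ j, 0 ≤ a j) (M : Fin r → (CohB1.ProjSpace 1 k).Modules)
    (e : ∀ j, Nonempty (M j ≅ Twist.twistProjSpace 1 k (a j))) :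
    Curv2.euler k (CohB1.ProjSpace 1 k) (⨁ M) = ∑ j, (a j + 1) := by
  have hv : ∀ i, 1 ≤ i → Subsingleton (Coh.HH (CohB1.ProjSpace 1 k) (⨁ M) i) := by
    intro i hi
    have : ∀ j, Subsingleton (Coh.HH (CohB1.ProjSpace 1 k) (M j) i) := by
      intro j
      obtain ⟨f⟩ := e j
      have := subsingleton_twist k (a j) (ha j) i hi
      exact (equivA k f i).toEquiv.subsingleton
    exact (biprodEquiv k M i).toEquiv.subsingleton
  have hfin : ∀ j, Module.Finite k (Coh.HH (CohB1.ProjSpace 1 k) (M j) 0) := by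
    intro j
    obtain ⟨f⟩ := e j
    have h1 := finrank_twist_zero k (a j) (ha j)
    have h2 : Module.Finite k (Coh.HH (CohB1.ProjSpace 1 k) (Twist.twistProjSpace 1 k (a j)) 0) := by
      refine Module.finite_of_finrank_pos ?_
      have := ha j
      omega
    exact Module.Finite.equiv (equivA k f.symm 0)
  rw [VarietyA.EulerAdd.euler_eq_sum k (⨁ M) 1 hv]
  simp only [Finset.range_one, Finset.sum_singleton, pow_zero, one_mul]
  rw [(biprodEquiv k M 0).finrank_eq, Module.finrank_pi_fintype]
  push_cast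
  refine Finset.sum_congr rfl fun j _ => ?_
  obtain ⟨f⟩ := e j
  rw [(equivA k f 0).finrank_eq]
  exact finrank_twist_zero k (a j) (ha j)

theorem euler_structure :
    Curv2.euler k (CohB1.ProjSpace 1 k) (Coh.structureModule (CohB1.ProjSpace 1 k)) = 1 := by
  obtain ⟨e⟩ := Groth.Agent.Ega2.TwistInv.nonempty_unit_iso (CohB1.polyGrading 1 k)
  have e' : Coh.structureModule (CohB1.ProjSpace 1 k) ≅ Twist.twistProjSpace 1 k 0 := e
  rw [VarietyA.EulerAdd.euler_congr k e', VarietyA.EulerAdd.euler_eq_sum k _ 1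
    fun i hi => subsingleton_twist k 0 le_rfl i hi]
  simp only [Finset.range_one, Finset.sum_singleton, pow_zero, one_mul]
  rw [finrank_twist_zero k 0 le_rfl]
  norm_num

/-- The degree of a split bundle with non-negative degrees. -/
theorem deg_split {r : ℕ} (a : Fin r → ℤ) (ha : ∀ j, 0 ≤ a j) (M : Fin r → (CohB1.ProjSpace 1 k).Modules)
    (e : ∀ j, Nonempty (M j ≅ Twist.twistProjSpace 1 k (a j))) :
    Curv2.deg k (CohB1.ProjSpace 1 k) (⨁ M) r = ∑ j, a j := by
  unfold Curv2.deg
  rw [euler_split k a ha M e, euler_structure]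
  simp [Finset.sum_add_distrib]

end Groth.Agent.VecBal.K812.LineDeg
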