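import Groth.Agent.VecBal.K812.Iface
import Groth.Agent.CurvSt.K896.TailBridge
import Groth.Agent.CurvesC.NodalPos2
import Groth.Agent.CurvesC.GenusOne512
import Groth.Agent.S1534
import Groth.Agent.S1536
import Groth.Agent.S2501
import Groth.Agent.CurvesC.Ample1675

/-!
# Semistable curves of genus `g ≥ 1` are the nodal curves without rational tails
-/

set_option autoImplicit false
universe u

open CategoryTheory CategoryTheory.Limits AlgebraicGeometry TopologicalSpace

namespace Groth.Agent.VecBal.K812.SemiIff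

open Groth.Agent Groth.Agent.CurvesC.CompGeom

/-- A semistable curve of genus `g ≥ 1` over an algebraically closed field is a connected nodal curve of genus `g` without
rational tails. -/
theorem isSemistablePtd_iff (Ω : Type u) [Field Ω] [IsAlgClosed Ω] (X : Scheme.{u}) (q : X ⟶ Spec (CommRingCat.of Ω))
    (g : ℕ) (hg : 1 ≤ g) : VecSt.IsSemistablePtd Ω X q g ↔
      IsProper q ∧ ConnectedSpace X ∧ topologicalKrullDim X = 1 ∧
        (letI : X.Over (Spec (CommRingCat.of Ω)) := ⟨q⟩
        Curv2.AtWorstNodal Ω X ∧ Curv2.genus Ω X = g) ∧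
        ∀ (C : Set X) (hC : C ∈ irreducibleComponents (X : Type u)), ¬ Curv2.IsRationalTail X C hC := by
  constructor
  · rintro ⟨h1, h2, h3, ⟨h4, h5⟩, h6⟩
    refine ⟨h1, h2, h3, ⟨h4, h5⟩, fun C hC ht => ?_⟩
    let _ : X.Over (Spec (CommRingCat.of Ω)) := ⟨q⟩
    have hq : IsProper (X ↘ (Spec (CommRingCat.of Ω))) := h1
    have hred := CurvesC.GenusOne512.isReduced_of_atWorstNodal Ω X h4
    have hN : IsNoetherian X := CurvesC.CurveCoh.noetherianSpace Ω X
    have hgr := CurvesB.NodeSch2.geometricallyReduced_of_atWorstNodal Ω h4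
    have hgc := S2501.result (X ↘ (Spec (CommRingCat.of Ω)))
    have h0 := S1536.result Ω X
    obtain ⟨-, -, hcomp⟩ := Groth.Agent.S1534.result Ω X h3 h0
    have h7 : CurvSt.IsSmRatComp Ω X (X ↘ (Spec (CommRingCat.of Ω))) C :=
      K896.TailBridge.isSmRatComp_of_h1 Ω X C hC (hcomp C hC) ht.2.2.2.2.2
    have h8 := h6 C h7
    rw [K896.CompMeet.meetPts_eq hC, ← Set.Finite.cast_ncard_eq (CurvesC.TailGeom.finite_inter h3.le hC).1,
      K896.TailBridge.ncard_of_isRationalTail Ω X C hC h3 h4 ht] at h8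
    exact absurd h8 (by decide)
  · rintro ⟨h1, h2, h3, ⟨h4, h5⟩, h6⟩
    refine ⟨h1, h2, h3, ⟨h4, h5⟩, fun C hC => ?_⟩
    let _ : X.Over (Spec (CommRingCat.of Ω)) := ⟨q⟩
    have hq : IsProper (X ↘ (Spec (CommRingCat.of Ω))) := h1
    have hred := CurvesC.GenusOne512.isReduced_of_atWorstNodal Ω X h4
    have hN : IsNoetherian X := CurvesC.CurveCoh.noetherianSpace Ω X
    have hfin : (C ∩ closure Cᶜ).Finite := (CurvesC.TailGeom.finite_inter h3.le hC.1).1
    have hne : C ≠ Set.univ := by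
      intro hu
      have h7 := CurvesC.NodalPos2.finrank_quot_univ Ω X C hC.1 hu 1
      have h8 := K896.TailBridge.h1_of_isSmRatComp Ω X C hC
      let _ := CurvesC.TailNum.subOver Ω X (IC X C hC.1)
      have h9 := CurvesC.TailNum.finrank_quotMod Ω X (IC X C hC.1) 1
      have h10 : Module.finrank Ω (Coh.HH (IC X C hC.1).subscheme (Coh.structureModule (IC X C hC.1).subscheme) 1) = 0 :=
        Module.finrank_zero_of_subsingleton
      have h11 : Module.finrank Ω (Coh.HH X (Coh.structureModule X) 1) = g := h5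
      omega
    rw [K896.CompMeet.meetPts_eq hC.1, ← Set.Finite.cast_ncard_eq hfin]
    have hpos : 0 < (C ∩ closure Cᶜ).ncard := by
      obtain ⟨x⟩ := nonempty_T X C hC.1 hne
      have hx : (IC X C hC.1 ⊔ IX' X C hC.1).subschemeι x ∈ C ∩ closure Cᶜ := by
        rw [← range_T X C hC.1]
        exact ⟨x, rfl⟩
      exact (Set.ncard_pos hfin).2 ⟨_, hx⟩
    have h1' : (C ∩ closure Cᶜ).ncard ≠ 1 := fun h =>
      h6 C hC.1 (K896.TailBridge.isRationalTail_of_ncard Ω X C h3 h4 hC hne h)
    have h2' : 2 ≤ (C ∩ closure Cᶜ).ncard := by omega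
    exact_mod_cast h2'

end Groth.Agent.VecBal.K812.SemiIff
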